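import Cfsg.Agent.Mrg.Omega.NOThree.Pts
import Cfsg.Agent.Mrg.Omega.NO3S.FarQ.End

section


/-!
# FullB (`q ≥ 4`, helper471 #21459, section 7; all `q`, `n ≥ 2`): frame, canonical groups, (7.1), (7.2)

Over `Pts.Geom`.

* `KK R W x` (predicate) : `k ∈ K_x`; `NN R W x` : the subgroup `N_x = C_{W_x}(K_x)`;
* `NV R W V x l w` : `w ∈ N_x`, `[w, C_G(V_l)] ≤ R_x` (canonical vectors of the flag `(x, l)`);
* `Hy inc R W V s t n` : the world;
* `Hy.one` (7.1), `Hy.two` (7.2), `Wp` = `W'_p`, `Hy.wp_comm`, `Hy.wp_sq`, `Hy.wp_smul`, `Hy.wp_le_o2`.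
-/

set_option autoImplicit false
set_option linter.unusedSectionVars false
set_option linter.unusedVariables false

namespace Cfsg.Agent.Omega.NO3S.WQ

open Subgroup Cfsg Cfsg.Agent.ZN Cfsg.Agent.MinSimple.VModule Cfsg.Agent.Omega.NOThree.Pts
open Cfsg.Agent.Omega.NOThree.LemmaM (NoOver)

variable {G X L : Type*} [Group G] [MulAction G X] [MulAction G L]
variable {inc : X → L → Prop} {R W : X → Subgroup G} {V : L → Subgroup G} {s t n : ℕ}

/-- `k ∈ K_x` -/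
def KK (R W : X → Subgroup G) (x : X) (k : G) : Prop :=
  (∀ r ∈ R x, k * r = r * k) ∧ ∀ w ∈ W x, k * w * k⁻¹ * w⁻¹ ∈ R x

/-- `N_x = C_{W_x}(K_x)` -/
def NN (R W : X → Subgroup G) (x : X) : Subgroup G := W x ⊓ centralizer {k | KK R W x k}

theorem mem_NN {x : X} {w : G} : w ∈ NN R W x ↔ w ∈ W x ∧ ∀ k, KK R W x k → k * w = w * k := by
  rw [NN, mem_inf, mem_centralizer_iff]
  rfl

/-- the canonical vectors of the flag `(x, l)` -/
def NV (R W : X → Subgroup G) (V : L → Subgroup G) (x : X) (l : L) (w : G) : Prop :=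
  w ∈ NN R W x ∧ ∀ c ∈ centralizer (V l : Set G), c * w * c⁻¹ * w⁻¹ ∈ R x

/-- **the world** -/
structure Hy (inc : X → L → Prop) (R W : X → Subgroup G) (V : L → Subgroup G) (s t n : ℕ) : Prop where
  D : Geom inc R W V s t
  two : 2 ≤ n
  min : ∀ k < n, ∀ a b, Walk inc k a b → Com W a b
  /-- at most one line on two points -/
  lin : ∀ l l' x y, inc x l → inc y l → inc x l' → inc y l' → x ≠ y → l = l'
  /-- `2`-transitivity on the lines -/
  tr : ∀ l l' x y x' y', inc x l → inc y l → x ≠ y → inc x' l' → inc y' l' → x' ≠ y' →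
    ∃ g : G, g • x = x' ∧ g • y = y' ∧ g • l = l'
  /-- `K_x` is transitive on the points `≠ x` of `l` -/
  kt : ∀ l x y z, inc x l → inc y l → inc z l → y ≠ x → z ≠ x → ∃ k, KK R W x k ∧ k • y = z
  /-- `K_x / C_{K_x}(V_l)` acts freely on `V_l - R_x` -/
  kf : ∀ l x k v, inc x l → KK R W x k → v ∈ V l → v ∉ R x → k * v = v * k → k ∈ centralizer (V l : Set G)
  ek : ∀ l x, inc x l → ∃ k, KK R W x k ∧ k ∉ centralizer (V l : Set G)
  /-- (T6) -/
  t6 : ∀ l u, u ∈ centralizer (V l : Set G) → u * u = 1 → (∀ c ∈ centralizer (V l : Set G), c * u = u * c) → u ∈ V l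
  /-- (X) -/
  xx : ∀ p q, Crit inc W n p q → ∀ w ∈ W p, (∀ b ∈ W q, b * w * b⁻¹ * w⁻¹ ∈ R p) → ∀ b ∈ W q, b * w = w * b
  no : NoOver inc R W V
  /-- exactness -/
  ex : ∀ p q, Crit inc W n p q → (W q ⊓ centralizer (W p : Set G)).relIndex (W q) ≤
    (W p ⊓ centralizer (W q : Set G)).relIndex (W p)
  /-- `W_q ∩ K_p = C_{W_q}(W_p)` -/
  ke : ∀ p q, Crit inc W n p q → ∀ f ∈ W q, (∀ w ∈ W p, f * w * f⁻¹ * w⁻¹ ∈ R p) → ∀ w ∈ W p, f * w = w * f

theorem cgm {g a b : G} (h : a = b) : g * a * g⁻¹ = g * b * g⁻¹ := by rw [h]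

theorem comm_iff_eq_one {a b : G} : a * b * a⁻¹ * b⁻¹ = 1 ↔ a * b = b * a := by
  rw [mul_inv_eq_one, mul_inv_eq_iff_eq_mul]

section KKb

variable {x : X}

theorem KK.mul {a b : G} (ha : KK R W x a) (hb : KK R W x b) : KK R W x (a * b) := by
  refine ⟨fun r hr => ?_, fun w hw => ?_⟩
  · rw [mul_assoc, hb.1 r hr, ← mul_assoc, ha.1 r hr, mul_assoc]
  · have e : a * b * w * (a * b)⁻¹ * w⁻¹ = (a * (b * w * b⁻¹ * w⁻¹) * a⁻¹) * (a * w * a⁻¹ * w⁻¹) := by group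
    rw [e, ha.1 _ (hb.2 w hw), mul_inv_cancel_right]
    exact mul_mem (hb.2 w hw) (ha.2 w hw)

theorem KK.inv {a : G} (ha : KK R W x a) : KK R W x a⁻¹ := by
  have h1 : ∀ r ∈ R x, a⁻¹ * r = r * a⁻¹ := fun r hr => by
    have := ha.1 r hr
    calc a⁻¹ * r = a⁻¹ * (r * a) * a⁻¹ := by group
      _ = a⁻¹ * (a * r) * a⁻¹ := by rw [this]
      _ = r * a⁻¹ := by group
  refine ⟨h1, fun w hw => ?_⟩
  have e : a⁻¹ * w * a⁻¹⁻¹ * w⁻¹ = a⁻¹ * (a * w * a⁻¹ * w⁻¹)⁻¹ * a⁻¹⁻¹ := by group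
  rw [e, h1 _ (inv_mem (ha.2 w hw)), mul_inv_cancel_right]
  exact inv_mem (ha.2 w hw)

end KKb

section geo

variable (D : Geom inc R W V s t)
include D

theorem KK.smul {x : X} {k : G} (hk : KK R W x k) (g : G) : KK R W (g • x) (g * k * g⁻¹) := by
  refine ⟨fun r hr => ?_, fun w hw => ?_⟩
  · have h1 := cgm (g := g) (hk.1 _ ((D.R_smul_iff g).1 hr))
    have e1 : g * (k * (g⁻¹ * r * g)) * g⁻¹ = g * k * g⁻¹ * r := by group
    have e2 : g * (g⁻¹ * r * g * k) * g⁻¹ = r * (g * k * g⁻¹) := by group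
    rwa [e1, e2] at h1
  · have h1 := hk.2 _ ((D.W_smul_iff g).1 hw)
    rw [D.R_smul_iff]
    have e : g⁻¹ * (g * k * g⁻¹ * w * (g * k * g⁻¹)⁻¹ * w⁻¹) * g =
        k * (g⁻¹ * w * g) * k⁻¹ * (g⁻¹ * w * g)⁻¹ := by group
    rwa [e]

theorem KK.conj {x : X} {k g : G} (hk : KK R W x k) (hg : g • x = x) : KK R W x (g * k * g⁻¹) := by
  have := KK.smul D hk g
  rwa [hg] at this

/-- `k ∈ K_x` normalises `W_x` and fixes `x` -/
theorem KK.fix {x : X} {k : G} (hk : KK R W x k) : k • x = x := D.fix_of_centralizes hk.1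

theorem NN_smul {x : X} {w : G} (hw : w ∈ NN R W x) (g : G) : g * w * g⁻¹ ∈ NN R W (g • x) := by
  rw [mem_NN] at hw ⊢
  refine ⟨D.W_smul g x w hw.1, fun k hk => ?_⟩
  have h1 := KK.smul D hk g⁻¹
  rw [inv_smul_smul] at h1
  have h2 := cgm (g := g) (hw.2 _ h1)
  have e1 : g * (g⁻¹ * k * g⁻¹⁻¹ * w) * g⁻¹ = k * (g * w * g⁻¹) := by group
  have e2 : g * (w * (g⁻¹ * k * g⁻¹⁻¹)) * g⁻¹ = g * w * g⁻¹ * k := by group
  rwa [e1, e2] at h2

theorem mem_V_smul {l : L} {g a : G} : a ∈ V (g • l) ↔ g⁻¹ * a * g ∈ V l := by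
  constructor
  · intro h
    have := D.V_smul g⁻¹ _ a h
    rwa [inv_smul_smul, inv_inv] at this
  · intro h
    have := D.V_smul g _ _ h
    have e : g * (g⁻¹ * a * g) * g⁻¹ = a := by group
    rwa [e] at this

theorem cent_smul {l : L} {c : G} (hc : c ∈ centralizer (V l : Set G)) (g : G) :
    g * c * g⁻¹ ∈ centralizer (V (g • l) : Set G) := by
  rw [mem_centralizer_iff] at hc ⊢
  intro v hv
  have h1 := cgm (g := g) (hc _ ((mem_V_smul D).1 hv))
  have e1 : g * (g⁻¹ * v * g * c) * g⁻¹ = v * (g * c * g⁻¹) := by group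
  have e2 : g * (c * (g⁻¹ * v * g)) * g⁻¹ = g * c * g⁻¹ * v := by group
  rwa [e1, e2] at h1

theorem inc_inv_smul {x : X} {l : L} {g : G} (h : inc x (g • l)) : inc (g⁻¹ • x) l := by
  have := D.inc_smul g⁻¹ _ _ h
  rwa [inv_smul_smul] at this

theorem cent_fix {x : X} {l : L} (hx : inc x l) {c : G} (hc : c ∈ centralizer (V l : Set G)) : c • x = x :=
  D.cent_V_le hx hc

theorem cent_R {x : X} {l : L} (hx : inc x l) {c : G} (hc : c ∈ centralizer (V l : Set G)) :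
    ∀ r ∈ R x, c * r = r * c := fun r hr => (mem_centralizer_iff.1 hc r (D.R_le x l hx hr)).symm

theorem NV.smul {x : X} {l : L} {w : G} (hw : NV R W V x l w) (g : G) :
    NV R W V (g • x) (g • l) (g * w * g⁻¹) := by
  refine ⟨NN_smul D hw.1 g, fun c hc => ?_⟩
  have h1 := cent_smul D hc g⁻¹
  rw [inv_smul_smul] at h1
  rw [D.R_smul_iff]
  have h2 := hw.2 _ h1
  have e : g⁻¹ * (c * (g * w * g⁻¹) * c⁻¹ * (g * w * g⁻¹)⁻¹) * g =
      g⁻¹ * c * g⁻¹⁻¹ * w * (g⁻¹ * c * g⁻¹⁻¹)⁻¹ * w⁻¹ := by group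
  rwa [e]

omit D in
theorem NV.mem_W {x : X} {l : L} {w : G} (hw : NV R W V x l w) : w ∈ W x := (mem_NN.1 hw.1).1

omit D in
theorem NV.comm {x : X} {l : L} {w k : G} (hw : NV R W V x l w) (hk : KK R W x k) : k * w = w * k :=
  (mem_NN.1 hw.1).2 k hk

theorem NV.mul {x : X} {l : L} (hx : inc x l) {a b : G} (ha : NV R W V x l a) (hb : NV R W V x l b) :
    NV R W V x l (a * b) := by
  refine ⟨mul_mem ha.1 hb.1, fun c hc => ?_⟩
  have h1 := hb.2 c hc
  have h2 := D.comm x a ha.mem_W _ (D.R_le_W x h1)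
  have e : c * (a * b) * c⁻¹ * (a * b)⁻¹ = (c * a * c⁻¹ * a⁻¹) * (a * (c * b * c⁻¹ * b⁻¹) * a⁻¹) := by group
  rw [e, h2, mul_inv_cancel_right]
  exact mul_mem (ha.2 c hc) h1

theorem NV.of_R {x : X} {l : L} (hx : inc x l) {r : G} (hr : r ∈ R x) : NV R W V x l r := by
  refine ⟨mem_NN.2 ⟨D.R_le_W x hr, fun k hk => hk.1 r hr⟩, fun c hc => ?_⟩
  have e : c * r * c⁻¹ * r⁻¹ = 1 := comm_iff_eq_one.2 (cent_R D hx hc r hr)
  rw [e]; exact one_mem _

end geo

/-- `W'_p` -/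
def Wp (inc : X → L → Prop) (R W : X → Subgroup G) (V : L → Subgroup G) (p : X) : Subgroup G :=
  closure {a | a ∈ W p ∨ ∃ l y, inc p l ∧ inc y l ∧ NV R W V y l a}

theorem W_le_Wp (p : X) : W p ≤ Wp inc R W V p := fun _ ha => subset_closure (Or.inl ha)

theorem mem_Wp {p y : X} {l : L} {a : G} (hp : inc p l) (hy : inc y l) (ha : NV R W V y l a) :
    a ∈ Wp inc R W V p := subset_closure (Or.inr ⟨l, y, hp, hy, ha⟩)

theorem closure_comm {A B : Set G} (h : ∀ a ∈ A, ∀ b ∈ B, a * b = b * a) :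
    ∀ a ∈ closure A, ∀ b ∈ closure B, a * b = b * a := by
  have h1 : closure A ≤ centralizer B := by
    rw [closure_le]
    intro a ha
    rw [SetLike.mem_coe, mem_centralizer_iff]
    exact fun b hb => (h a ha b hb).symm
  have h2 : closure B ≤ centralizer ((closure A : Subgroup G) : Set G) := by
    rw [closure_le]
    intro b hb
    rw [SetLike.mem_coe, mem_centralizer_iff]
    intro a ha
    exact (mem_centralizer_iff.1 (h1 ha) b hb).symm
  intro a ha b hb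
  exact mem_centralizer_iff.1 (h2 hb) a ha

theorem isPGroup_of_sq {A : Subgroup G} (hA : ∀ a ∈ A, a * a = 1) : IsPGroup 2 A := fun a =>
  ⟨1, Subtype.ext (by
    rw [pow_one, pow_two]
    exact hA a a.2)⟩

namespace Hy

variable (h : Hy inc R W V s t n)
include h

theorem exists_inc (l : L) : ∃ x, inc x l := by
  obtain ⟨x, hx, -⟩ := h.D.cover l 1 (one_mem _)
  exact ⟨x, hx⟩

theorem sqV {l : L} {v : G} (hv : v ∈ V l) : v * v = 1 := by
  obtain ⟨x, hx⟩ := h.exists_inc l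
  exact h.D.sq x v (h.D.V_le x l hx hv)

/-- `N_x ∩ V_l = R_x` -/
theorem NN_inf {x : X} {l : L} (hx : inc x l) {a : G} (ha : a ∈ NN R W x) (haV : a ∈ V l) : a ∈ R x := by
  by_contra haR
  obtain ⟨k, hk, hkV⟩ := h.ek l x hx
  exact hkV (h.kf l x k a hx hk haV haR ((mem_NN.1 ha).2 k hk))

/-- `K_p` fixes the lines on `p` -/
theorem KK_line {p : X} {l : L} (hp : inc p l) {k : G} (hk : KK R W p k) : k • l = l := by
  obtain ⟨c, hc, hcV⟩ := h.ek l p hp
  -- a point of `l` different from `p`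
  have h1 : ∃ x, inc x l ∧ x ≠ p := by
    by_contra hcon
    push Not at hcon
    apply hcV
    rw [mem_centralizer_iff]
    intro v hv
    obtain ⟨z, hz, hvz⟩ := h.D.cover l v hv
    rw [hcon z hz] at hvz
    exact (hc.1 v hvz).symm
  obtain ⟨x, hx, hxp⟩ := h1
  obtain ⟨r, hr, hr1⟩ := h.D.exists_ne x
  have hrV : r ∈ V l := h.D.R_le x l hx hr
  have h2 : k * r * k⁻¹ ∈ V l := by
    have h3 := h.D.R_le p l hp (hk.2 r (h.D.V_le p l hp hrV))
    have := mul_mem h3 hrV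
    rwa [inv_mul_cancel_right] at this
  obtain ⟨z, hz, hrz⟩ := h.D.cover l _ h2
  have h4 : z = k • x := h.D.ti _ _ _ hrz (h.D.R_smul k x r hr) (fun e => hr1 (by simpa using e))
  have hkx : inc (k • x) l := h4 ▸ hz
  have hkp := KK.fix h.D hk
  refine h.lin (k • l) l (k • x) p (h.D.inc_smul k _ _ hx) ?_ hkx hp ?_
  · have := h.D.inc_smul k _ _ hp
    rwa [hkp] at this
  · intro e
    exact hxp (MulAction.injective k (e.trans hkp.symm))

/-- distinct lines on `p` meet in `R_p` -/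
theorem V_inf {p : X} {l l' : L} (hp : inc p l) (hp' : inc p l') (hne : l ≠ l') {v : G} (hv : v ∈ V l)
    (hv' : v ∈ V l') : v ∈ R p := by
  by_cases hv1 : v = 1
  · rw [hv1]; exact one_mem _
  obtain ⟨z, hz, hvz⟩ := h.D.cover l v hv
  obtain ⟨z', hz', hvz'⟩ := h.D.cover l' v hv'
  obtain rfl := h.D.ti _ _ _ hvz hvz' hv1
  by_cases hzp : z = p
  · rwa [hzp] at hvz
  · exact absurd (h.lin l l' z p hz hp hz' hp' hzp) hne

/-- `W_q` centralises a line with a point at distance `< n` -/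
theorem W_le_cent_line {q x : X} {l : L} (hx : inc x l) {k : ℕ} (hk : k < n) (hw : Walk inc k q x) :
    W q ≤ centralizer (V l : Set G) := by
  intro b hb
  rw [mem_centralizer_iff]
  intro v hv
  exact (h.min k hk q x hw b hb v (h.D.V_le x l hx hv)).symm

/-- **(7.1)** -/
theorem one {q x y : X} {l : L} (hx : inc x l) (hy : inc y l) {k : ℕ} (hk : k < n) (hw : Walk inc k q x) {a : G}
    (ha : NV R W V y l a) : ∀ b ∈ W q, b * a = a * b := by
  intro b hb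
  by_cases hcom : Com W q y
  · exact hcom b hb a ha.mem_W
  · have hw' : Walk inc n q y := (hw.step hx hy).mono h.D (by omega)
    have hcr : Crit inc W n q y := ⟨hw', hcom, h.min⟩
    refine h.xx y q hcr.symm a ha.mem_W (fun b' hb' => ?_) b hb
    exact ha.2 b' (h.W_le_cent_line hx hk hw hb')

/-- **(7.2)** for the vectors -/
theorem two_comm {p q y y' : X} {l m : L} (hp : inc p l) (hq : inc q m) {k : ℕ} (hk : k < n)
    (hw : Walk inc k p q) (hy : inc y l) (hy' : inc y' m) {a b : G} (ha : NV R W V y l a)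
    (hb : NV R W V y' m b) : a * b = b * a := by
  have h1 : a ∈ centralizer (V m : Set G) := by
    rw [mem_centralizer_iff]
    intro v hv
    exact h.one hp hy hk hw.symm ha v (h.D.V_le q m hq hv)
  have h2 : b ∈ centralizer (V l : Set G) := by
    rw [mem_centralizer_iff]
    intro v hv
    exact h.one hq hy' hk hw hb v (h.D.V_le p l hp hv)
  have h3 := hb.2 a h1
  have h4 := ha.2 b h2
  have h5 : a * b * a⁻¹ * b⁻¹ ∈ R y := by
    have e : a * b * a⁻¹ * b⁻¹ = (b * a * b⁻¹ * a⁻¹)⁻¹ := by group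
    rw [e]; exact inv_mem h4
  by_cases hne : y = y'
  · subst hne
    exact h.D.comm y a ha.mem_W b hb.mem_W
  · by_contra hcon
    exact hne (h.D.ti _ _ _ h5 h3 fun e => hcon (comm_iff_eq_one.1 e))

/-- **(7.2)** -/
theorem wp_comm {p q : X} {k : ℕ} (hk : k < n) (hw : Walk inc k p q) :
    ∀ a ∈ Wp inc R W V p, ∀ b ∈ Wp inc R W V q, a * b = b * a := by
  refine closure_comm ?_
  rintro a (ha | ⟨l, y, hl, hy, ha⟩) b (hb | ⟨m, y', hm, hy', hb⟩)
  · exact h.min k hk p q hw a ha b hb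
  · exact h.one hm hy' hk hw hb a ha
  · exact (h.one hl hy hk hw.symm ha b hb).symm
  · exact h.two_comm hl hm hk hw hy hy' ha hb

theorem wp_comm' {p : X} : ∀ a ∈ Wp inc R W V p, ∀ b ∈ Wp inc R W V p, a * b = b * a :=
  h.wp_comm (k := 0) (by have := h.two; omega) (.zero p)

theorem wp_sq {p : X} : ∀ a ∈ Wp inc R W V p, a * a = 1 := by
  intro a ha
  refine closure_induction (p := fun a _ => a * a = 1) ?_ ?_ ?_ ?_ ha
  · rintro a (ha | ⟨l, y, -, -, ha⟩)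
    · exact h.D.sq p a ha
    · exact h.D.sq y a ha.mem_W
  · rw [one_mul]
  · intro a b ha hb h1 h2
    have h3 := h.wp_comm' a ha b hb
    calc a * b * (a * b) = a * (b * a) * b := by group
      _ = a * (a * b) * b := by rw [h3]
      _ = (a * a) * (b * b) := by group
      _ = 1 := by rw [h1, h2, one_mul]
  · intro a ha h1
    rw [← mul_inv_rev, h1, inv_one]

theorem wp_smul {p : X} {a : G} (ha : a ∈ Wp inc R W V p) (g : G) : g * a * g⁻¹ ∈ Wp inc R W V (g • p) := by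
  refine closure_induction (p := fun a _ => g * a * g⁻¹ ∈ Wp inc R W V (g • p)) ?_ ?_ ?_ ?_ ha
  · rintro a (ha | ⟨l, y, hl, hy, ha⟩)
    · exact W_le_Wp _ (h.D.W_smul g p a ha)
    · exact mem_Wp (h.D.inc_smul g _ _ hl) (h.D.inc_smul g _ _ hy) (ha.smul h.D g)
  · rw [mul_one, mul_inv_cancel]; exact one_mem _
  · intro a b ha hb h1 h2
    have e : g * (a * b) * g⁻¹ = (g * a * g⁻¹) * (g * b * g⁻¹) := by group
    rw [e]; exact mul_mem h1 h2
  · intro a ha h1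
    have e : g * a⁻¹ * g⁻¹ = (g * a * g⁻¹)⁻¹ := by group
    rw [e]; exact inv_mem h1

theorem wp_cent {p q : X} {k : ℕ} (hk : k < n) (hw : Walk inc k p q) :
    Wp inc R W V p ≤ centralizer (W q : Set G) := by
  intro a ha
  rw [mem_centralizer_iff]
  intro b hb
  exact (h.wp_comm hk hw a ha b (W_le_Wp q hb)).symm

/-- **(7.2)**, second part -/
theorem wp_le_o2 {p q : X} {k : ℕ} (hk : k < n) (hw : Walk inc k p q) :
    Wp inc R W V p ≤ o2 (MulAction.stabilizer G q) := by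
  induction hw with
  | zero p =>
    refine le_o2 ((h.wp_cent (k := 0) hk (.zero p)).trans (h.D.cent_W_le p)) (isPGroup_of_sq h.wp_sq)
      (mem_normalizer_of_conj fun g hg a ha => ?_)
    have h1 := h.wp_smul ha g
    have h2 : g • p = p := hg
    rwa [h2] at h1
  | @step k p y z l hpy hy hz ih =>
    have h1 := ih (by omega)
    have h2 := h.D.le_o2_cent hy h1 ((h.wp_cent (by omega) hpy).trans (centralizer_le (h.D.V_le y l hy)))
    exact h.D.le_o2_stab hz h2 (h.wp_cent hk (hpy.step hy hz))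

/-- for a critical pair: `W'_p ≤ O₂(C_G(V_l))`, `l` the last line -/
theorem wp_crit {p q : X} (hc : Crit inc W n p q) : ∃ r l, Walk inc (n - 1) p r ∧ inc r l ∧ inc q l ∧ r ≠ q ∧
    Wp inc R W V p ≤ o2 (centralizer (V l : Set G)) ∧ Wp inc R W V p ≤ centralizer (W r : Set G) := by
  have h2 := h.two
  obtain ⟨r, l, hr, hrl, hql⟩ := hc.last (by omega)
  refine ⟨r, l, hr, hrl, hql, hc.ne_last (by omega) hr, ?_, h.wp_cent (by omega) hr⟩
  exact h.D.le_o2_cent hrl (h.wp_le_o2 (by omega) hr)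
    ((h.wp_cent (by omega) hr).trans (centralizer_le (h.D.V_le r l hrl)))

end Hy

end Cfsg.Agent.Omega.NO3S.WQ

end

section


/-!
# FullB, section 7 of #21459 (helper471), all `q`, `n ≥ 2`

* `Hy.five` (7.3) : `f ∈ N_q`, `R_x ∩ W_q = 1`, `a ∈ N_{x,l}`, `p, x ∈ l`: `a a^f ∈ W_p`;
* `Hy.comm_of_five` (7.4); `Ct` : `K_y ∩ C(V_l)` centralises `N_{z,l}`, `z ≠ y`;
* `Hy.delta`, `Hy.surj` (7.5) : `a a^k ∈ N_{p,l}` for `a ∈ N_{x,l}`, `k ∈ K_p`, and all of `N_{p,l}` arises so (mod `R_p`);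
* `Hy.false_of` (7.6) : the contradiction.  Input: one critical pair `(p, q)` and `f ∈ N_q` with `[f, W_p] ≠ 1`,
  `[f, W_p] ≤ N_p`; and `fx`: some vector `e v`, `e ∈ N_{p,m}`, `v ∈ V_m - R_p`, is fixed (mod `R_p`) by the stabiliser of
  `V_m N_p` (odd orbit sum).
-/

set_option autoImplicit false
set_option linter.unusedSectionVars false
set_option linter.unusedVariables false

namespace Cfsg.Agent.Omega.NO3S.WQ

open Subgroup Cfsg Cfsg.Agent.ZN Cfsg.Agent.MinSimple.VModule Cfsg.Agent.Omega.NOThree.Pts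
open Cfsg.Agent.Omega.NOThree.LemmaM (NoOver cm mem_cm relIndex_ne_zero')

variable {G X L : Type*} [Group G] [MulAction G X] [MulAction G L]
variable {inc : X → L → Prop} {R W : X → Subgroup G} {V : L → Subgroup G} {s t n : ℕ}

theorem exists_mul_of_sup {N K : Subgroup G} (hc : ∀ a ∈ N, ∀ b ∈ K, a * b = b * a) {x : G} (hx : x ∈ N ⊔ K) :
    ∃ a ∈ N, ∃ b ∈ K, x = b * a := by
  let A : Subgroup G :=
    { carrier := {x | ∃ a ∈ N, ∃ b ∈ K, x = b * a}
      one_mem' := ⟨1, one_mem _, 1, one_mem _, by rw [one_mul]⟩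
      mul_mem' := by
        rintro _ _ ⟨a, ha, b, hb, rfl⟩ ⟨a', ha', b', hb', rfl⟩
        refine ⟨a * a', mul_mem ha ha', b * b', mul_mem hb hb', ?_⟩
        calc b * a * (b' * a') = b * (a * b') * a' := by group
          _ = b * (b' * a) * a' := by rw [hc a ha b' hb']
          _ = b * b' * (a * a') := by group
      inv_mem' := by
        rintro _ ⟨a, ha, b, hb, rfl⟩
        refine ⟨a⁻¹, inv_mem ha, b⁻¹, inv_mem hb, ?_⟩
        rw [mul_inv_rev, hc a⁻¹ (inv_mem ha) b⁻¹ (inv_mem hb)] }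
  have h1 : N ⊔ K ≤ A := sup_le (fun a ha => ⟨a, ha, 1, one_mem _, by rw [one_mul]⟩)
    (fun b hb => ⟨1, one_mem _, b, hb, by rw [mul_one]⟩)
  exact h1 hx

/-- `A ≤ N W` if `W ≤ A`, `N ≤ A` and `|A : N| ≤ |W : W ∩ N|` -/
theorem le_sup_of_relIndex [Finite G] {A N W : Subgroup G} (hN : N ≤ A) (hW : W ≤ A)
    (h : N.relIndex A ≤ N.relIndex W) : A ≤ N ⊔ W := by
  have h1 := relIndex_mul_relIndex N (N ⊔ W) A le_sup_left (sup_le hN hW)
  have h2 : N.relIndex W ≤ N.relIndex (N ⊔ W) := relIndex_le_of_le_right le_sup_right (relIndex_ne_zero' _ _)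
  have h3 : (N ⊔ W).relIndex A = 1 := by
    have h4 : N.relIndex (N ⊔ W) * (N ⊔ W).relIndex A ≤ N.relIndex (N ⊔ W) * 1 := by
      rw [h1, mul_one]; exact h.trans h2
    have h5 := Nat.le_of_mul_le_mul_left h4 (Nat.pos_of_ne_zero (relIndex_ne_zero' _ _))
    have h6 : (N ⊔ W).relIndex A ≠ 0 := relIndex_ne_zero' _ _
    omega
  exact relIndex_eq_one.1 h3

/-- `K_y ∩ C(V_l)` centralises `N_{z,l}` for `z ≠ y` -/
def Ct (inc : X → L → Prop) (R W : X → Subgroup G) (V : L → Subgroup G) : Prop :=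
  ∀ l y z k a, inc y l → inc z l → z ≠ y → KK R W y k → k ∈ centralizer (V l : Set G) → NV R W V z l a →
    k * a = a * k

/-- `X_l` -/
def XX (inc : X → L → Prop) (R W : X → Subgroup G) (V : L → Subgroup G) (l : L) : Subgroup G :=
  closure {a | a ∈ V l ∨ ∃ y, inc y l ∧ NV R W V y l a}

/-- `E_p = {e ∈ X_l : [e, C(V_l)] ≤ R_p}` -/
def EE (inc : X → L → Prop) (R W : X → Subgroup G) (V : L → Subgroup G) (p : X) (l : L) (e : G) : Prop :=
  e ∈ XX inc R W V l ∧ ∀ c ∈ centralizer (V l : Set G), c * e * c⁻¹ * e⁻¹ ∈ R p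

namespace Hy

variable (h : Hy inc R W V s t n)
include h

/-- **(7.3)** -/
theorem five [Finite G] {p q x : X} {l : L} (hc : Crit inc W n p q) {f a : G} (hf : f ∈ NN R W q) (hp : inc p l)
    (hx : inc x l) (hxq : ∀ u ∈ R x, u ∈ W q → u = 1) (ha : NV R W V x l a) : a * (f * a * f⁻¹) ∈ W p := by
  have h2 := h.two
  have D := h.D
  obtain ⟨r, m, hr, hrm, hqm, hrq, hle, hcr⟩ := h.wp_crit hc
  set A : Subgroup G := closure {a | a ∈ W p ∨
    ∃ l x, inc p l ∧ inc x l ∧ (∀ u ∈ R x, u ∈ W q → u = 1) ∧ NV R W V x l a} with hA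
  have hWA : W p ≤ A := fun a ha => subset_closure (Or.inl ha)
  have hAW : A ≤ Wp inc R W V p := by
    rw [hA, closure_le]
    rintro a (ha | ⟨l, x, hl, hx, -, ha⟩)
    · exact W_le_Wp _ ha
    · exact mem_Wp hl hx ha
  have hcV : Wp inc R W V p ≤ centralizer (V m : Set G) := hle.trans (o2_le _)
  have hfq : ∀ a ∈ Wp inc R W V p, a • q = q := fun a ha => cent_fix D hqm (hcV ha)
  have hfp : ∀ b ∈ W q, b • p = p := fun b hb => hc.symm.fix D (by omega) hb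
  have hAR : ∀ a ∈ A, ∀ c ∈ R q, a * c = c * a := fun a ha c hc' => cent_R D hqm (hcV (hAW ha)) c hc'
  have hqR : ∀ a ∈ W q, ∀ c ∈ R q, a * c = c * a := fun a ha c hcc => D.comm q a ha c (D.R_le_W q hcc)
  have hC : ∀ u, u ∈ cm (W q) A (R q) hqR ↔ u ∈ W q ∧ ∀ a ∈ A, a * u * a⁻¹ * u⁻¹ ∈ R q := by
    intro u
    rw [mem_cm]
    refine and_congr_right fun hu => forall₂_congr fun a ha => ?_
    have e : a * u * a⁻¹ * u⁻¹ = (u * a * u⁻¹ * a⁻¹)⁻¹ := by group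
    rw [e, inv_mem_iff]
  have h3 : (cm A (W q) (R q) hAR).relIndex A ≤ (cm (W q) A (R q) hqR).relIndex (W q) := by
    refine h.no q m hqm A (hAW.trans hle) (fun a ha b hb => h.wp_comm' a (hAW ha) b (hAW hb))
      (fun a ha => h.wp_sq a (hAW ha)) ?_ ?_ _ _ (fun a => mem_cm) hC
    · intro y hy hyq a ha u hu huy
      exact (mem_centralizer_iff.1 (hcr (hAW ha)) u (D.inf_le hqm hy hrm hyq.symm ⟨hu, huy⟩)).symm
    · intro a ha b hb u hu
      refine h.wp_comm' b (hAW hb) _ ?_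
      have h4 := h.wp_smul (inv_mem (hAW ha)) u
      rw [hfp u hu] at h4
      have e : a * u * a⁻¹ * u⁻¹ = a * (u * a⁻¹ * u⁻¹) := by group
      rw [e]
      exact mul_mem (hAW ha) h4
  have h4 : W q ⊓ centralizer (W p : Set G) ≤ cm (W q) A (R q) hqR := by
    rintro u ⟨hu, hup⟩
    rw [hC]
    refine ⟨hu, fun a ha => ?_⟩
    have h5 : A ≤ centralizer ({u} : Set G) := by
      rw [hA, closure_le]
      rintro a (ha | ⟨l, x, hl, hx, hxq, ha⟩)
      · rw [SetLike.mem_coe, mem_centralizer_singleton_iff]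
        exact mem_centralizer_iff.1 hup a ha
      · rw [SetLike.mem_coe, mem_centralizer_singleton_iff]
        have h6 : u * a * u⁻¹ * a⁻¹ ∈ R x :=
          ha.2 u (centralizer_le (D.V_le p l hl) hup)
        have h7 : u * a * u⁻¹ * a⁻¹ ∈ W q := by
          have e : u * a * u⁻¹ * a⁻¹ = u * (a * u⁻¹ * a⁻¹) := by group
          rw [e]
          exact mul_mem hu (D.norm_W (hfq a (mem_Wp hl hx ha)) (inv_mem hu))
        exact (comm_iff_eq_one.1 (hxq _ h6 h7)).symm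
    have h6 : a * u * a⁻¹ * u⁻¹ = 1 := comm_iff_eq_one.2 (mem_centralizer_singleton_iff.1 (h5 ha))
    rw [h6]; exact one_mem _
  set N := cm A (W q) (R q) hAR with hN
  have h5 : N.relIndex A ≤ N.relIndex (W p) := by
    calc N.relIndex A ≤ (cm (W q) A (R q) hqR).relIndex (W q) := h3
      _ ≤ (W q ⊓ centralizer (W p : Set G)).relIndex (W q) := relIndex_le_of_le_left h4 (relIndex_ne_zero' _ _)
      _ ≤ (W p ⊓ centralizer (W q : Set G)).relIndex (W p) := h.ex p q hc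
      _ ≤ (N ⊓ W p).relIndex (W p) := by
        refine relIndex_le_of_le_left ?_ (relIndex_ne_zero' _ _)
        rintro w ⟨hw, hwp⟩
        refine ⟨hwp, mem_centralizer_iff.2 fun b hb => ?_⟩
        exact (h.ke q p hc.symm w hwp (mem_cm.1 hw).2 b hb).symm
      _ = N.relIndex (W p) := inf_relIndex_right _ _
  have hNA : N ≤ A := fun a ha => (mem_cm.1 ha).1
  have h6 := le_sup_of_relIndex hNA hWA h5
  have haA : a ∈ A := subset_closure (Or.inr ⟨l, x, hp, hx, hxq, ha⟩)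
  obtain ⟨u, hu, w, hw, rfl⟩ := exists_mul_of_sup
    (fun a ha b hb => h.wp_comm' a (hAW (hNA ha)) b (W_le_Wp p hb)) (h6 haA)
  have hu' : KK R W q u := ⟨fun r hr => hAR u (hNA hu) r hr, (mem_cm.1 hu).2⟩
  obtain ⟨hfq', hfk⟩ := mem_NN.1 hf
  have h7 := hfk u hu'
  have h8 : f * w * f⁻¹ ∈ W p := D.norm_W (hfp f hfq') hw
  have h9 : u * (f * w * f⁻¹) = f * w * f⁻¹ * u := h.wp_comm' u (hAW (hNA hu)) _ (W_le_Wp p h8)
  have h10 : u * u = 1 := h.wp_sq u (hAW (hNA hu))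
  have e : w * u * (f * (w * u) * f⁻¹) = w * (f * w * f⁻¹) := by
    calc w * u * (f * (w * u) * f⁻¹) = w * (u * (f * w * f⁻¹)) * (f * u * f⁻¹) := by group
      _ = w * (f * w * f⁻¹ * u) * (u * f * f⁻¹) := by rw [h9, h7]
      _ = w * (f * w * f⁻¹) * (u * u) := by group
      _ = w * (f * w * f⁻¹) := by rw [h10, mul_one]
  rw [e]
  exact mul_mem hw h8

theorem R_inf_of {p q x : X} {m : L} (hc : Crit inc W n p q) {f : G} (hf : f ∈ W q) (hp : inc p m) (hx : inc x m)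
    (hxp : x ≠ p) (hfm : f • m ≠ m) : ∀ u ∈ R x, u ∈ W q → u = 1 := by
  intro u hu huq
  by_contra hu1
  have h2 := h.two
  have hfp : f • p = p := hc.symm.fix h.D (by omega) hf
  have hfx : f • x = x := h.D.fix hu hu1 (h.D.comm q f hf u huq)
  apply hfm
  have h3 := h.D.inc_smul f _ _ hx
  have h4 := h.D.inc_smul f _ _ hp
  rw [hfx] at h3
  rw [hfp] at h4
  exact h.lin _ _ x p h3 h4 hx hp hxp

/-- `k ∈ K_p` centralising `V_m` centralises `V_{m^f}` -/
theorem cent_smul_of {p : X} {m : L} (hp : inc p m) {f k : G}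
    (hC : ∀ w ∈ W p, f * w * f⁻¹ * w⁻¹ ∈ NN R W p) (hk : KK R W p k) (hkV : k ∈ centralizer (V m : Set G)) :
    k ∈ centralizer (V (f • m) : Set G) := by
  rw [mem_centralizer_iff]
  intro v' hv'
  have hv := (mem_V_smul h.D).1 hv'
  set v := f⁻¹ * v' * f with hvd
  have h1 := (mem_NN.1 (hC v (h.D.V_le p m hp hv))).2 k hk
  have h2 := mem_centralizer_iff.1 hkV v hv
  have e : v' = (f * v * f⁻¹ * v⁻¹) * v := by rw [hvd]; group
  rw [e]
  calc f * v * f⁻¹ * v⁻¹ * v * k = f * v * f⁻¹ * v⁻¹ * (v * k) := by group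
    _ = f * v * f⁻¹ * v⁻¹ * (k * v) := by rw [h2]
    _ = (f * v * f⁻¹ * v⁻¹ * k) * v := by group
    _ = (k * (f * v * f⁻¹ * v⁻¹)) * v := by rw [h1]
    _ = k * (f * v * f⁻¹ * v⁻¹ * v) := by group

/-- **(7.4)** -/
theorem comm_of_five [Finite G] {p q x : X} {m : L} (hc : Crit inc W n p q) {f a k : G} (hf : f ∈ NN R W q)
    (hC : ∀ w ∈ W p, f * w * f⁻¹ * w⁻¹ ∈ NN R W p) (hp : inc p m) (hx : inc x m) (hxp : x ≠ p) (hfm : f • m ≠ m)
    (ha : NV R W V x m a) (hk : KK R W p k) (hkV : k ∈ centralizer (V m : Set G)) : k * a = a * k := by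
  have h2 := h.two
  have D := h.D
  have hfq := (mem_NN.1 hf).1
  have hfp : f • p = p := hc.symm.fix D (by omega) hfq
  have hw := h.five hc hf hp hx (h.R_inf_of hc hfq hp hx hxp hfm) ha
  have ha' := ha.smul D f
  set a' := f * a * f⁻¹ with ha'd
  have hpf : inc p (f • m) := by
    have := D.inc_smul f _ _ hp
    rwa [hfp] at this
  have hxf : inc (f • x) (f • m) := D.inc_smul f _ _ hx
  have hkV' := h.cent_smul_of hp hC hk hkV
  have h3 := ha.2 k hkV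
  have h4 := ha'.2 k hkV'
  have h5 := hk.2 _ hw
  set r := k * a * k⁻¹ * a⁻¹ with hr
  set r' := k * a' * k⁻¹ * a'⁻¹ with hr'
  have hr'V : r' ∈ V (f • m) := D.R_le _ _ hxf h4
  have h6 : a * r' = r' * a := h.wp_comm' a (mem_Wp hp hx ha) r' (W_le_Wp p (D.V_le p _ hpf hr'V))
  have e : k * (a * a') * k⁻¹ * (a * a')⁻¹ = r * r' := by
    calc k * (a * a') * k⁻¹ * (a * a')⁻¹ = (k * a * k⁻¹) * (k * a' * k⁻¹ * a'⁻¹) * a⁻¹ := by group
      _ = (k * a * k⁻¹) * r' * a⁻¹ := by rw [hr']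
      _ = (k * a * k⁻¹ * a⁻¹) * (a * r') * a⁻¹ := by group
      _ = r * (r' * a) * a⁻¹ := by rw [h6, hr]
      _ = r * r' := by group
  rw [e] at h5
  have h7 : r' ∈ V m := by
    have h8 := mul_mem (inv_mem (D.R_le x m hx h3)) (D.R_le p m hp h5)
    rwa [inv_mul_cancel_left] at h8
  have h8 : r' ∈ R p := h.V_inf hp hpf (Ne.symm hfm) h7 hr'V
  have h9 : r' = 1 := by
    by_contra hne
    exact hxp (MulAction.injective f ((D.ti _ _ _ h4 h8 hne).trans hfp.symm))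
  rw [h9, mul_one] at h5
  have h10 : r = 1 := by
    by_contra hne
    exact hxp (D.ti _ _ _ h3 h5 hne)
  exact comm_iff_eq_one.1 h10

theorem ct_of [Finite G] {p q x : X} {m : L} (hc : Crit inc W n p q) {f : G} (hf : f ∈ NN R W q)
    (hC : ∀ w ∈ W p, f * w * f⁻¹ * w⁻¹ ∈ NN R W p) (hp : inc p m) (hx : inc x m) (hxp : x ≠ p)
    (hfm : f • m ≠ m) : Ct inc R W V := by
  intro l y z k a hy hz hzy hk hkV ha
  obtain ⟨g, hgy, hgz, hgl⟩ := h.tr l m y z p x hy hz hzy.symm hp hx hxp.symm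
  have h1 := KK.smul h.D hk g
  have h2 := cent_smul h.D hkV g
  have h3 := ha.smul h.D g
  rw [hgy] at h1
  rw [hgl] at h2
  rw [hgz, hgl] at h3
  have h4 := cgm (g := g⁻¹) (h.comm_of_five hc hf hC hp hx hxp hfm h3 h1 h2)
  have e1 : g⁻¹ * (g * k * g⁻¹ * (g * a * g⁻¹)) * g⁻¹⁻¹ = k * a := by group
  have e2 : g⁻¹ * (g * a * g⁻¹ * (g * k * g⁻¹)) * g⁻¹⁻¹ = a * k := by group
  rwa [e1, e2] at h4

/-! ### (7.5) -/

theorem XX_le {p : X} {l : L} (hp : inc p l) : XX inc R W V l ≤ Wp inc R W V p := by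
  rw [XX, closure_le]
  rintro a (ha | ⟨y, hy, ha⟩)
  · exact W_le_Wp _ (h.D.V_le p l hp ha)
  · exact mem_Wp hp hy ha

omit h in
theorem V_le_XX {l : L} {v : G} (hv : v ∈ V l) : v ∈ XX inc R W V l := subset_closure (Or.inl hv)

omit h in
theorem NV_XX {y : X} {l : L} (hy : inc y l) {a : G} (ha : NV R W V y l a) : a ∈ XX inc R W V l :=
  subset_closure (Or.inr ⟨y, hy, ha⟩)

theorem XX_comm {l : L} {a b : G} (ha : a ∈ XX inc R W V l) (hb : b ∈ XX inc R W V l) : a * b = b * a := by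
  obtain ⟨p, hp⟩ := h.exists_inc l
  exact h.wp_comm' a (h.XX_le hp ha) b (h.XX_le hp hb)

theorem XX_sq {l : L} {a : G} (ha : a ∈ XX inc R W V l) : a * a = 1 := by
  obtain ⟨p, hp⟩ := h.exists_inc l
  exact h.wp_sq a (h.XX_le hp ha)

theorem EE_mul {p : X} {l : L} (hp : inc p l) {a b : G} (ha : EE inc R W V p l a) (hb : EE inc R W V p l b) :
    EE inc R W V p l (a * b) := by
  refine ⟨mul_mem ha.1 hb.1, fun c hc => ?_⟩
  have h1 := hb.2 c hc
  have h2 := h.XX_comm ha.1 (V_le_XX (R := R) (W := W) (inc := inc) (h.D.R_le p l hp h1))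
  have e : c * (a * b) * c⁻¹ * (a * b)⁻¹ = (c * a * c⁻¹ * a⁻¹) * (a * (c * b * c⁻¹ * b⁻¹) * a⁻¹) := by group
  rw [e, h2, mul_inv_cancel_right]
  exact mul_mem (ha.2 c hc) h1

omit h in
theorem EE_of_V {p : X} {l : L} {v : G} (hv : v ∈ V l) : EE inc R W V p l v := by
  refine ⟨V_le_XX hv, fun c hc => ?_⟩
  have e : c * v * c⁻¹ * v⁻¹ = 1 := comm_iff_eq_one.2 (mem_centralizer_iff.1 hc v hv).symm
  rw [e]; exact one_mem _

omit h in
theorem EE_of_NV {p : X} {l : L} (hp : inc p l) {a : G} (ha : NV R W V p l a) : EE inc R W V p l a :=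
  ⟨NV_XX hp ha, ha.2⟩

/-- `E_p ∩ E_x = V_l` -/
theorem EE_inf {p x : X} {l : L} (hxp : x ≠ p) {e : G} (he : EE inc R W V p l e) (he' : EE inc R W V x l e) :
    e ∈ V l := by
  refine h.t6 l e ?_ (h.XX_sq he.1) fun c hc => ?_
  · rw [mem_centralizer_iff]
    exact fun v hv => h.XX_comm (V_le_XX hv) he.1
  · by_contra hne
    exact hxp (h.D.ti _ _ _ (he'.2 c hc) (he.2 c hc) fun e1 => hne (comm_iff_eq_one.1 e1))

/-- `[c, a a^k] = [[c, a], k]` -/
theorem delta_comm (ct : Ct inc R W V) {p x : X} {l : L} (hp : inc p l) (hx : inc x l) (hxp : x ≠ p) {a k : G}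
    (ha : NV R W V x l a) (hk : KK R W p k) : EE inc R W V p l (a * (k * a * k⁻¹)) := by
  have D := h.D
  have hkl := h.KK_line hp hk
  have hkl' : k⁻¹ • l = l := by rw [inv_smul_eq_iff, hkl]
  have hb := ha.smul D k
  rw [hkl] at hb
  have hkx : inc (k • x) l := by
    have := D.inc_smul k _ _ hx
    rwa [hkl] at this
  refine ⟨mul_mem (NV_XX hx ha) (NV_XX hkx hb), fun c hc => ?_⟩
  have hc' : k⁻¹ * c * k ∈ centralizer (V l : Set G) := by
    have := cent_smul D hc k⁻¹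
    rwa [hkl', inv_inv] at this
  set d := k⁻¹ * c * k * c⁻¹ with hd
  have hdV : d ∈ centralizer (V l : Set G) := mul_mem hc' (inv_mem hc)
  have hdK : KK R W p d := by
    have h1 := KK.conj D hk (cent_fix D hp hc)
    have h2 := hk.inv.mul h1
    have e : k⁻¹ * (c * k * c⁻¹) = d := by rw [hd]; group
    rwa [e] at h2
  have h1 := ct l p x d a hp hx hxp hdK hdV ha
  have hr := ha.2 c hc
  set r := c * a * c⁻¹ * a⁻¹ with hrd
  have hrV := D.R_le x l hx hr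
  have h2 : d * r = r * d := (mem_centralizer_iff.1 hdV r hrV).symm
  have h3 : (k⁻¹ * c * k) * a * (k⁻¹ * c * k)⁻¹ * a⁻¹ = r := by
    have e1 : k⁻¹ * c * k = d * c := by rw [hd]; group
    rw [e1]
    calc d * c * a * (d * c)⁻¹ * a⁻¹ = d * (c * a * c⁻¹ * a⁻¹) * a * d⁻¹ * a⁻¹ := by group
      _ = (d * r) * a * d⁻¹ * a⁻¹ := by rw [hrd]
      _ = r * (d * a) * d⁻¹ * a⁻¹ := by rw [h2]; group
      _ = r * (a * d) * d⁻¹ * a⁻¹ := by rw [h1]
      _ = r := by group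
  have h4 : k * r * k⁻¹ * r⁻¹ ∈ R p := hk.2 r (D.V_le p l hp hrV)
  have h5 : k * r * k⁻¹ ∈ V l := by
    have := mul_mem (D.R_le p l hp h4) hrV
    rwa [inv_mul_cancel_right] at this
  have h6 := h.XX_comm (NV_XX hx ha) (V_le_XX (R := R) (W := W) (inc := inc) h5)
  have e2 : c * (a * (k * a * k⁻¹)) * c⁻¹ * (a * (k * a * k⁻¹))⁻¹ = r * (k * r * k⁻¹) := by
    calc c * (a * (k * a * k⁻¹)) * c⁻¹ * (a * (k * a * k⁻¹))⁻¹
        = (c * a * c⁻¹ * a⁻¹) * (a * (k * ((k⁻¹ * c * k) * a * (k⁻¹ * c * k)⁻¹ * a⁻¹) * k⁻¹) * a⁻¹) := by group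
      _ = r * (a * (k * r * k⁻¹) * a⁻¹) := by rw [h3, hrd]
      _ = r * (k * r * k⁻¹) := by rw [h6, mul_inv_cancel_right]
  have h7 : r⁻¹ = r := inv_eq_of_mul_eq_one_left (h.sqV hrV)
  have h8 : r * (k * r * k⁻¹) = k * r * k⁻¹ * r := by
    obtain ⟨z, hz⟩ := h.exists_inc l
    exact D.comm z _ (D.V_le z l hz hrV) _ (D.V_le z l hz h5)
  rw [e2, h8]
  rwa [h7] at h4

/-- `X_l ≤ N_{x,l} E_p` -/
theorem dec (ct : Ct inc R W V) {p x : X} {l : L} (hp : inc p l) (hx : inc x l) (hxp : x ≠ p) {e : G}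
    (he : e ∈ XX inc R W V l) : ∃ a, NV R W V x l a ∧ ∃ e', EE inc R W V p l e' ∧ e = a * e' := by
  have D := h.D
  have one : NV R W V x l 1 := NV.of_R D hx (one_mem _)
  refine closure_induction (p := fun e _ => ∃ a, NV R W V x l a ∧ ∃ e', EE inc R W V p l e' ∧ e = a * e')
    ?_ ?_ ?_ ?_ he
  · rintro b (hb | ⟨y, hy, hb⟩)
    · exact ⟨1, one, b, EE_of_V hb, by rw [one_mul]⟩
    · by_cases hyp : y = p
      · subst hyp
        exact ⟨1, one, b, EE_of_NV hy hb, by rw [one_mul]⟩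
      · obtain ⟨k, hk, hkx⟩ := h.kt l p x y hp hx hy hxp hyp
        have hkl := h.KK_line hp hk
        have hkl' : k⁻¹ • l = l := by rw [inv_smul_eq_iff, hkl]
        have h1 := hb.smul D k⁻¹
        rw [hkl', ← hkx, inv_smul_smul, inv_inv] at h1
        refine ⟨k⁻¹ * b * k, h1, _, h.delta_comm ct hp hx hxp h1 hk, ?_⟩
        have h2 : (k⁻¹ * b * k) * (k⁻¹ * b * k) = 1 := D.sq x _ h1.mem_W
        rw [← mul_assoc, h2, one_mul]
        group
  · exact ⟨1, one, 1, EE_of_V (one_mem _), by rw [one_mul]⟩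
  · rintro b c - - ⟨a, ha, e, he, rfl⟩ ⟨a', ha', e', he', rfl⟩
    refine ⟨a * a', ha.mul D hx ha', e * e', h.EE_mul hp he he', ?_⟩
    have h1 := h.XX_comm he.1 (NV_XX hx ha')
    calc a * e * (a' * e') = a * (e * a') * e' := by group
      _ = a * (a' * e) * e' := by rw [h1]
      _ = a * a' * (e * e') := by group
  · rintro b - ⟨a, ha, e, he, rfl⟩
    refine ⟨a, ha, e, he, ?_⟩
    have h1 : (a * e) * (a * e) = 1 := h.XX_sq (mul_mem (NV_XX hx ha) he.1)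
    exact inv_eq_of_mul_eq_one_left h1

theorem exists_ne_pt {p : X} {l : L} (hp : inc p l) : ∃ x, inc x l ∧ x ≠ p := by
  by_contra hcon
  push Not at hcon
  obtain ⟨c, hc, hcV⟩ := h.ek l p hp
  apply hcV
  rw [mem_centralizer_iff]
  intro v hv
  obtain ⟨z, hz, hvz⟩ := h.D.cover l v hv
  rw [hcon z hz] at hvz
  exact (hc.1 v hvz).symm

/-- `E_p = N_{p,l} V_l` -/
theorem EE_dec (ct : Ct inc R W V) {p : X} {l : L} (hp : inc p l) {e : G} (he : EE inc R W V p l e) :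
    ∃ a, NV R W V p l a ∧ ∃ v ∈ V l, e = a * v := by
  obtain ⟨x, hx, hxp⟩ := h.exists_ne_pt hp
  obtain ⟨a, ha, e', he', rfl⟩ := h.dec ct hx hp hxp.symm he.1
  refine ⟨a, ha, e', ?_, rfl⟩
  have h1 : EE inc R W V p l (a * (a * e')) := h.EE_mul hp (EE_of_NV hp ha) he
  have h2 : a * (a * e') = e' := by rw [← mul_assoc, h.XX_sq (NV_XX hp ha), one_mul]
  rw [h2] at h1
  exact h.EE_inf hxp h1 he'

/-- `k² ∈ C(V_l)` -/
theorem sq_cent {p : X} {l : L} (hp : inc p l) {k : G} (hk : KK R W p k) :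
    k * k ∈ centralizer (V l : Set G) := by
  rw [mem_centralizer_iff]
  intro v hv
  have h1 := hk.2 v (h.D.V_le p l hp hv)
  set r := k * v * k⁻¹ * v⁻¹ with hr
  have h2 := hk.1 r h1
  have h3 : r * r = 1 := h.sqV (h.D.R_le p l hp h1)
  have e : k * v = r * v * k := by rw [hr]; group
  calc v * (k * k) = (r * r) * v * (k * k) := by rw [h3, one_mul]
    _ = r * (r * v * k) * k := by group
    _ = r * (k * v) * k := by rw [e]
    _ = (r * k) * v * k := by group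
    _ = (k * r) * v * k := by rw [h2]
    _ = k * (r * v * k) := by group
    _ = k * (k * v) := by rw [e]
    _ = k * k * v := by group

/-- **`a a^k ∈ N_{p,l}`** -/
theorem delta (ct : Ct inc R W V) {p x : X} {l : L} (hp : inc p l) (hx : inc x l) (hxp : x ≠ p) {a k : G}
    (ha : NV R W V x l a) (hk : KK R W p k) (hkV : k ∉ centralizer (V l : Set G)) :
    NV R W V p l (a * (k * a * k⁻¹)) := by
  have D := h.D
  have hE := h.delta_comm ct hp hx hxp ha hk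
  obtain ⟨b, hb, v, hv, e⟩ := h.EE_dec ct hp hE
  have h1 := ct l p x (k * k) a hp hx hxp (hk.mul hk) (h.sq_cent hp hk) ha
  have hkl := h.KK_line hp hk
  have hkx : inc (k • x) l := by
    have := D.inc_smul k _ _ hx
    rwa [hkl] at this
  have ha' := ha.smul D k
  rw [hkl] at ha'
  have h2 := h.XX_comm (NV_XX hx ha) (NV_XX hkx ha')
  have h3 : k * (a * (k * a * k⁻¹)) * k⁻¹ = a * (k * a * k⁻¹) := by
    calc k * (a * (k * a * k⁻¹)) * k⁻¹ = (k * a * k⁻¹) * (k * k * a) * (k * k)⁻¹ := by group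
      _ = (k * a * k⁻¹) * (a * (k * k)) * (k * k)⁻¹ := by rw [h1]
      _ = (k * a * k⁻¹) * a := by group
      _ = a * (k * a * k⁻¹) := h2.symm
  rw [e] at h3 ⊢
  have h4 := hb.comm hk
  have h5 : k * v = v * k := by
    have h6 : b * (k * v * k⁻¹) = b * v := by
      calc b * (k * v * k⁻¹) = (b * k) * v * k⁻¹ := by group
        _ = (k * b) * v * k⁻¹ := by rw [h4]
        _ = k * (b * v) * k⁻¹ := by group
        _ = b * v := h3
    have h7 := mul_left_cancel h6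
    exact mul_inv_eq_iff_eq_mul.1 h7
  have h6 : v ∈ R p := by
    by_contra hvR
    exact hkV (h.kf l p k v hp hk hv hvR h5)
  exact hb.mul D hp (NV.of_R D hp h6)

/-- `k ∈ K_p - C(V_l)` moves the points `≠ p` of `l` -/
theorem moves {p x : X} {l : L} (hp : inc p l) (hx : inc x l) (hxp : x ≠ p) {k : G} (hk : KK R W p k)
    (hkV : k ∉ centralizer (V l : Set G)) : k • x ≠ x := by
  intro e
  obtain ⟨r, hr, hr1⟩ := h.D.exists_ne x
  have hrV := h.D.R_le x l hx hr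
  have h1 := hk.2 r (h.D.V_le p l hp hrV)
  have h2 : k * r * k⁻¹ * r⁻¹ ∈ R x := mul_mem (h.D.norm_R e hr) (inv_mem hr)
  have h3 : k * r = r * k := by
    by_contra hne
    exact hxp (h.D.ti _ _ _ h2 h1 fun e1 => hne (comm_iff_eq_one.1 e1))
  refine hkV (h.kf l p k r hp hk hrV (fun hrp => ?_) h3)
  exact hxp (h.D.ti _ _ _ hr hrp hr1)

/-- **every vector of `N_{p,l}` is `a a^k` modulo `R_p`** -/
theorem surj (ct : Ct inc R W V) {p x : X} {l : L} (hp : inc p l) (hx : inc x l) (hxp : x ≠ p) {e k : G}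
    (hk : KK R W p k) (hkV : k ∉ centralizer (V l : Set G)) (he : NV R W V p l e) :
    ∃ a, NV R W V x l a ∧ ∃ r ∈ R p, e = r * (a * (k * a * k⁻¹)) := by
  have D := h.D
  have hkl := h.KK_line hp hk
  have hkl' : k⁻¹ • l = l := by rw [inv_smul_eq_iff, hkl]
  have hkx : inc (k • x) l := by
    have := D.inc_smul k _ _ hx
    rwa [hkl] at this
  have hne := h.moves hp hx hxp hk hkV
  obtain ⟨a, ha, e', he', hee⟩ := h.dec ct hkx hx hne.symm (NV_XX hp he)
  obtain ⟨b, hb, v, hv, rfl⟩ := h.EE_dec ct hkx he'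
  have h1 := hb.smul D k⁻¹
  rw [hkl', inv_smul_smul, inv_inv] at h1
  set a₁ := k⁻¹ * b * k with ha₁
  have hδ := h.delta ct hp hx hxp h1 hk hkV
  set δ := a₁ * (k * a₁ * k⁻¹) with hδd
  have ha₁X := NV_XX hx h1
  have haX := NV_XX hx ha
  have hδX := NV_XX hp hδ
  have hvX := V_le_XX (R := R) (W := W) (inc := inc) hv
  have hbe : b = a₁ * δ := by
    have e1 : b = k * a₁ * k⁻¹ := by rw [ha₁]; group
    rw [hδd, ← mul_assoc, h.XX_sq ha₁X, one_mul, ← e1]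
  -- `e = (a a₁) δ v`
  have hee' : e = (a * a₁) * (δ * v) := by rw [hee, hbe]; group
  have h2 : a * a₁ = e * (δ * v) := by
    have h3 : (δ * v) * (δ * v) = 1 := h.XX_sq (mul_mem hδX hvX)
    rw [hee', mul_assoc, h3, mul_one]
  have h3 : EE inc R W V p l (a * a₁) := by
    rw [h2]
    exact h.EE_mul hp (EE_of_NV hp he) (h.EE_mul hp (EE_of_NV hp hδ) (EE_of_V hv))
  have h4 : NV R W V x l (a * a₁) := ha.mul D hx h1
  have h5 : a * a₁ ∈ V l := h.EE_inf hxp h3 (EE_of_NV hx h4)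
  have h6 : e = (a * a₁ * v) * δ := by
    rw [hee', h.XX_comm hδX hvX]; group
  have h7 : NV R W V p l (a * a₁ * v) := by
    have h8 : a * a₁ * v = e * δ := by
      calc a * a₁ * v = a * a₁ * v * (δ * δ) := by rw [h.XX_sq hδX, mul_one]
        _ = (a * a₁ * v * δ) * δ := by group
        _ = e * δ := by rw [← h6]
    rw [h8]
    exact he.mul D hp hδ
  exact ⟨a₁, h1, a * a₁ * v, h.NN_inf hp h7.1 (mul_mem h5 hv), h6⟩

/-! ### (7.6) -/

theorem false_of [Finite G] {p q : X} (hc : Crit inc W n p q) {f : G} (hf : f ∈ NN R W q)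
    (hC : ∀ w ∈ W p, f * w * f⁻¹ * w⁻¹ ∈ NN R W p) (hm : ∃ w ∈ W p, f * w ≠ w * f)
    (fx : ∀ m, inc p m → ∃ e v, NV R W V p m e ∧ v ∈ V m ∧ v ∉ R p ∧ ∀ g, (∀ r ∈ R p, g * r = r * g) →
      (∀ u ∈ V m, g * u * g⁻¹ * u⁻¹ ∈ NN R W p) → g * (e * v) * g⁻¹ * (e * v)⁻¹ ∈ R p) : False := by
  have h2 := h.two
  have D := h.D
  have hfq := (mem_NN.1 hf).1
  have hfp : f • p = p := hc.symm.fix D (by omega) hfq
  have hfR : ∀ r ∈ R p, f * r = r * f := fun r hr => hc.symm.comm_R D (by omega) hfq hr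
  have hRW : ∀ a ∈ R p, ∀ w ∈ W p, w * a = a * w := fun a ha w hw => D.comm p w hw a (D.R_le_W p ha)
  -- a line moved by `f`
  obtain ⟨m, hp, hfm⟩ : ∃ m, inc p m ∧ f • m ≠ m := by
    by_contra hcon
    push Not at hcon
    let A : Subgroup G :=
      { carrier := {w | w ∈ W p ∧ f * w * f⁻¹ * w⁻¹ ∈ R p}
        one_mem' := ⟨one_mem _, by simp⟩
        mul_mem' := by
          rintro a b ⟨ha, ha'⟩ ⟨hb, hb'⟩
          refine ⟨mul_mem ha hb, ?_⟩
          have e : f * (a * b) * f⁻¹ * (a * b)⁻¹ = (f * a * f⁻¹ * a⁻¹) * (a * (f * b * f⁻¹ * b⁻¹) * a⁻¹) := by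
            group
          rw [e, hRW _ hb' a ha, mul_inv_cancel_right]
          exact mul_mem ha' hb'
        inv_mem' := by
          rintro a ⟨ha, ha'⟩
          refine ⟨inv_mem ha, ?_⟩
          rwa [D.inv_eq ha] }
    have h3 : W p ≤ A := by
      refine D.W_le p A fun l hl v hv => ?_
      have hvW := D.V_le p l hl hv
      have h4 : f * v * f⁻¹ ∈ V l := by
        have := D.V_smul f l v hv
        rwa [hcon l hl] at this
      exact ⟨hvW, h.NN_inf hl (hC v hvW) (mul_mem h4 (inv_mem hv))⟩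
    obtain ⟨w, hw, hne⟩ := hm
    exact hne (h.ke p q hc f hfq (fun w hw => (h3 hw).2) w hw)
  obtain ⟨x, hx, hxp⟩ := h.exists_ne_pt hp
  have ct := h.ct_of hc hf hC hp hx hxp hfm
  have hpf : inc p (f • m) := by
    have := D.inc_smul f _ _ hp
    rwa [hfp] at this
  -- `f` centralises `N_{p,m}` modulo `R_p`
  have key : ∀ e, NV R W V p m e → f * e * f⁻¹ * e⁻¹ ∈ R p := by
    intro e he
    obtain ⟨k, hk, hkV⟩ := h.ek m p hp
    obtain ⟨a, ha, r, hr, rfl⟩ := h.surj ct hp hx hxp hk hkV he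
    have hδ := h.delta ct hp hx hxp ha hk hkV
    have hw := h.five hc hf hp hx (h.R_inf_of hc hfq hp hx hxp hfm) ha
    set δ := a * (k * a * k⁻¹) with hδd
    have ha' := ha.smul D f
    have hδW := mem_Wp hp hp hδ
    have haW := mem_Wp hp hx ha
    have ha'W := mem_Wp hpf (D.inc_smul f _ _ hx) ha'
    set a' := f * a * f⁻¹ with ha'd
    -- `k'' = f⁻¹ k f`
    have hk'' : KK R W p (f⁻¹ * k * f) := by
      have := KK.conj D hk (g := f⁻¹) (by rw [inv_smul_eq_iff, hfp])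
      rwa [inv_inv] at this
    have hd : KK R W p (k⁻¹ * (f⁻¹ * k * f)) := hk.inv.mul hk''
    have hdV : k⁻¹ * (f⁻¹ * k * f) ∈ centralizer (V m : Set G) := by
      rw [mem_centralizer_iff]
      intro v hv
      have hvW := D.V_le p m hp hv
      have hu := hC v hvW
      set u := f * v * f⁻¹ * v⁻¹ with hud
      have h3 := (mem_NN.1 hu).2 k hk
      have h4 := hk.2 v hvW
      set r₁ := k * v * k⁻¹ * v⁻¹ with hr₁
      have h5 := hRW r₁ h4 u (mem_NN.1 hu).1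
      have h6 : (f⁻¹ * k * f) * v * (f⁻¹ * k * f)⁻¹ = k * v * k⁻¹ := by
        have e1 : f * v * f⁻¹ = u * v := by rw [hud]; group
        have e2 : k * v * k⁻¹ = r₁ * v := by rw [hr₁]; group
        calc (f⁻¹ * k * f) * v * (f⁻¹ * k * f)⁻¹ = f⁻¹ * (k * (f * v * f⁻¹) * k⁻¹) * f := by group
          _ = f⁻¹ * (k * (u * v) * k⁻¹) * f := by rw [e1]
          _ = f⁻¹ * ((k * u) * v * k⁻¹) * f := by group
          _ = f⁻¹ * (u * (k * v * k⁻¹)) * f := by rw [h3]; group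
          _ = f⁻¹ * ((u * r₁) * v) * f := by rw [e2]; group
          _ = f⁻¹ * (r₁ * (u * v)) * f := by rw [h5]; group
          _ = f⁻¹ * (r₁ * (f * v * f⁻¹)) * f := by rw [e1]
          _ = f⁻¹ * (r₁ * f) * v := by group
          _ = f⁻¹ * (f * r₁) * v := by rw [hfR r₁ h4]
          _ = k * v * k⁻¹ := by rw [e2]; group
      have h7 : (f⁻¹ * k * f) * v = k * v * k⁻¹ * (f⁻¹ * k * f) := mul_inv_eq_iff_eq_mul.1 h6
      calc v * (k⁻¹ * (f⁻¹ * k * f)) = k⁻¹ * (k * v * k⁻¹ * (f⁻¹ * k * f)) := by group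
        _ = k⁻¹ * ((f⁻¹ * k * f) * v) := by rw [h7]
        _ = k⁻¹ * (f⁻¹ * k * f) * v := by group
    have h3 := ct m p x _ a hp hx hxp hd hdV ha
    have h4 : (f⁻¹ * k * f) * a * (f⁻¹ * k * f)⁻¹ = a * δ := by
      have e1 : a * δ = k * a * k⁻¹ := by
        rw [hδd, ← mul_assoc, D.sq x a ha.mem_W, one_mul]
      rw [e1]
      calc (f⁻¹ * k * f) * a * (f⁻¹ * k * f)⁻¹
          = k * (k⁻¹ * (f⁻¹ * k * f) * a) * (k⁻¹ * (f⁻¹ * k * f))⁻¹ * k⁻¹ := by group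
        _ = k * (a * (k⁻¹ * (f⁻¹ * k * f))) * (k⁻¹ * (f⁻¹ * k * f))⁻¹ * k⁻¹ := by rw [h3]
        _ = k * a * k⁻¹ := by group
    have h5 : k * a' * k⁻¹ = a' * (f * δ * f⁻¹) := by
      calc k * a' * k⁻¹ = f * ((f⁻¹ * k * f) * a * (f⁻¹ * k * f)⁻¹) * f⁻¹ := by rw [ha'd]; group
        _ = f * (a * δ) * f⁻¹ := by rw [h4]
        _ = a' * (f * δ * f⁻¹) := by rw [ha'd]; group
    have h6 : k * a * k⁻¹ = a * δ := by
      rw [hδd, ← mul_assoc, D.sq x a ha.mem_W, one_mul]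
    have h7 := hk.2 _ hw
    have hδ'W : f * δ * f⁻¹ ∈ Wp inc R W V p := by
      have := h.wp_smul hδW f
      rwa [hfp] at this
    have c1 : δ * a' = a' * δ := h.wp_comm' _ hδW _ ha'W
    have c2 : (a * a') * (δ * (f * δ * f⁻¹)) = (δ * (f * δ * f⁻¹)) * (a * a') :=
      h.wp_comm' _ (mul_mem haW ha'W) _ (mul_mem hδW hδ'W)
    have h8 : k * (a * a') * k⁻¹ * (a * a')⁻¹ = δ * (f * δ * f⁻¹) := by
      calc k * (a * a') * k⁻¹ * (a * a')⁻¹ = (k * a * k⁻¹) * (k * a' * k⁻¹) * (a * a')⁻¹ := by group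
        _ = (a * δ) * (a' * (f * δ * f⁻¹)) * (a * a')⁻¹ := by rw [h6, h5]
        _ = a * (δ * a') * (f * δ * f⁻¹) * (a * a')⁻¹ := by group
        _ = a * (a' * δ) * (f * δ * f⁻¹) * (a * a')⁻¹ := by rw [c1]
        _ = (a * a') * (δ * (f * δ * f⁻¹)) * (a * a')⁻¹ := by group
        _ = δ * (f * δ * f⁻¹) := by rw [c2, mul_inv_cancel_right]
    rw [h8] at h7
    have c3 : δ * (f * δ * f⁻¹) = f * δ * f⁻¹ * δ := h.wp_comm' _ hδW _ hδ'W
    have h9 : δ⁻¹ = δ := inv_eq_of_mul_eq_one_left (h.wp_sq δ hδW)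
    have h10 : f * δ * f⁻¹ * δ⁻¹ ∈ R p := by rw [h9, ← c3]; exact h7
    have e : f * (r * δ) * f⁻¹ * (r * δ)⁻¹ = r * (f * δ * f⁻¹ * δ⁻¹) * r⁻¹ := by
      calc f * (r * δ) * f⁻¹ * (r * δ)⁻¹ = (f * r) * δ * f⁻¹ * δ⁻¹ * r⁻¹ := by group
        _ = (r * f) * δ * f⁻¹ * δ⁻¹ * r⁻¹ := by rw [hfR r hr]
        _ = r * (f * δ * f⁻¹ * δ⁻¹) * r⁻¹ := by group
    rw [e]
    exact mul_mem (mul_mem hr h10) (inv_mem hr)
  -- the end
  obtain ⟨e, v, he, hv, hvR, hfix⟩ := fx m hp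
  have h3 := hfix f hfR fun u hu => hC u (D.V_le p m hp hu)
  have h4 := key e he
  have h5 : f * v * f⁻¹ * v⁻¹ ∈ R p := by
    have e1 : f * (e * v) * f⁻¹ * (e * v)⁻¹ = (f * e * f⁻¹ * e⁻¹) * (e * (f * v * f⁻¹ * v⁻¹) * e⁻¹) := by group
    rw [e1] at h3
    have h6 := mul_mem (inv_mem h4) h3
    rw [inv_mul_cancel_left] at h6
    have h7 := hRW _ h6 e he.mem_W
    have e2 : f * v * f⁻¹ * v⁻¹ = e⁻¹ * (e * (f * v * f⁻¹ * v⁻¹) * e⁻¹) * e := by group
    rw [e2]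
    have h8 : e⁻¹ * (e * (f * v * f⁻¹ * v⁻¹) * e⁻¹) * e = e * (f * v * f⁻¹ * v⁻¹) * e⁻¹ := by
      rw [mul_assoc, ← h7, inv_mul_cancel_left]
    rw [h8]; exact h6
  have h6 : f * v * f⁻¹ ∈ V m := by
    have := mul_mem (D.R_le p m hp h5) hv
    rwa [inv_mul_cancel_right] at this
  have h7 := h.V_inf hp hpf (Ne.symm hfm) h6 (D.V_smul f m v hv)
  apply hvR
  have h8 := D.norm_R (g := f⁻¹) (x := p) (by rw [inv_smul_eq_iff, hfp]) h7
  have e3 : f⁻¹ * (f * v * f⁻¹) * f⁻¹⁻¹ = v := by group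
  rwa [e3] at h8

end Hy

end Cfsg.Agent.Omega.NO3S.WQ

end

section


/-!
# FullB, section 7 of #21459: the fields of `Hy` and `fx` over `Frm`

* `exists_fixed` : odd averages;
* `exists_fx` : the hypothesis `fx` of `Hy.false_of`, for every flag;
* `hy_of_frm` : `Hy` from `Geom`, `Frm`, `V` injective, (T6), and `ExP` for all critical pairs;
* `false_of_frm` : the end.
-/

set_option autoImplicit false
set_option linter.unusedSectionVars false
set_option linter.unusedVariables false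

namespace Cfsg.Agent.Omega.NO3S.WQ

open Subgroup Cfsg Cfsg.Agent.ZN Cfsg.Agent.MinSimple.VModule Cfsg.Agent.Omega.NOThree.Pts
open Cfsg.Agent.Omega.NOThree.LemmaM (NoOver)
open Cfsg.Agent.Omega.NO3S.FarQ Cfsg.Agent.Omega.NO3S.FarQ.Glue Cfsg.Agent.Omega.NO3S.FarQ.Free
open Cfsg.Agent.Omega.NO3S.FarQ.Asm (ExP)

section avg

variable {Γ M : Type*} [Group Γ] [CommGroup M] [MulDistribMulAction Γ M]

/-- **Odd averages**: `T` fixes `a`, `|Γ : T|` is odd, `[Γ', a] ≤ N`: some `n a`, `n ∈ N`, is fixed by `Γ'`. -/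
theorem exists_fixed [Finite Γ] (hsq : ∀ m : M, m * m = 1) {T Γ' : Subgroup Γ} (hT : ¬ 2 ∣ T.index) (hT' : T ≤ Γ')
    {N : Subgroup M} {a : M} (ha : ∀ t ∈ T, t • a = a) (hN : ∀ g ∈ Γ', (g • a) * a⁻¹ ∈ N) :
    ∃ n ∈ N, ∀ g ∈ Γ', g • (n * a) = n * a := by
  classical
  set T₁ : Subgroup Γ' := T.subgroupOf Γ' with hT₁
  haveI : Fintype (Γ' ⧸ T₁) := Fintype.ofFinite _
  have hodd : ¬ 2 ∣ Fintype.card (Γ' ⧸ T₁) := by
    intro h2
    apply hT
    rw [← relIndex_mul_index hT']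
    refine Dvd.dvd.mul_right ?_ _
    rw [← Nat.card_eq_fintype_card] at h2
    exact h2
  let F : Γ' ⧸ T₁ → M := Quotient.lift (fun g : Γ' => (g : Γ) • a) (by
    intro g g' hgg
    have h1 : g⁻¹ * g' ∈ T₁ := QuotientGroup.leftRel_apply.1 hgg
    have h2 := ha _ (mem_subgroupOf.1 h1)
    show (g : Γ) • a = (g' : Γ) • a
    rw [Subgroup.coe_mul, Subgroup.coe_inv, mul_smul, inv_smul_eq_iff] at h2
    exact h2.symm)
  have hF : ∀ g : Γ', F (QuotientGroup.mk g) = (g : Γ) • a := fun g => rfl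
  have hFN : ∀ c, F c * a⁻¹ ∈ N := by
    intro c
    obtain ⟨g, rfl⟩ := QuotientGroup.mk_surjective c
    rw [hF]
    exact hN _ g.2
  have hpow : ∀ k : ℕ, ¬ 2 ∣ k → ∀ x : M, x ^ k = x := by
    intro k hk x
    obtain ⟨j, rfl⟩ : ∃ j, k = 2 * j + 1 := ⟨k / 2, by omega⟩
    rw [pow_succ, pow_mul, pow_two, hsq, one_pow, one_mul]
  refine ⟨∏ c, (F c * a⁻¹), Subgroup.prod_mem _ fun c _ => hFN c, fun g hg => ?_⟩
  have h1 : (∏ c, (F c * a⁻¹)) * a = ∏ c, F c := by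
    rw [Finset.prod_mul_distrib, Finset.prod_const, Finset.card_univ, hpow _ hodd, inv_mul_cancel_right]
  rw [h1, Finset.smul_prod']
  refine Fintype.prod_equiv (MulAction.toPerm (⟨g, hg⟩ : Γ')) _ _ fun c => ?_
  obtain ⟨g', rfl⟩ := QuotientGroup.mk_surjective c
  show g • F (QuotientGroup.mk g') = F ((⟨g, hg⟩ : Γ') • (QuotientGroup.mk g' : Γ' ⧸ T₁))
  rw [hF]
  show g • (g' : Γ) • a = F (QuotientGroup.mk ((⟨g, hg⟩ : Γ') * g'))
  rw [hF, Subgroup.coe_mul, mul_smul]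

end avg

variable {G X L : Type*} [Group G] [MulAction G X] [MulAction G L]
variable {inc : X → L → Prop} {R W : X → Subgroup G} {V : L → Subgroup G} {s t n : ℕ}
variable {H M K : Type*} [Group H] [CommGroup M] [MulDistribMulAction H M] [CommGroup K]
variable {p : X} {l : L} {Sy : Subgroup G} {ρ : G → H} {π : G → M} {ζ : K →* G} {T : Subgroup H}
  {lam U : Subgroup M} {Kh : Subgroup (M →* K)}

/-- `N_p / R_p` -/
def rad {p : X} {ρ : G → H} {π : G → M} (Re : Four.Real R W p ρ π) : Subgroup M where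
  carrier := {m | ∃ w ∈ NN R W p, π w = m}
  one_mem' := ⟨1, one_mem _, π_one Re⟩
  mul_mem' := by
    rintro _ _ ⟨w, hw, rfl⟩ ⟨w', hw', rfl⟩
    exact ⟨w * w', mul_mem hw hw', Re.pmul _ (mem_NN.1 hw).1 _ (mem_NN.1 hw').1⟩
  inv_mem' := by
    rintro _ ⟨w, hw, rfl⟩
    exact ⟨w⁻¹, inv_mem hw, π_inv Re (mem_NN.1 hw).1⟩

theorem mem_rad {Re : Four.Real R W p ρ π} {m : M} : m ∈ rad Re ↔ ∃ w ∈ NN R W p, π w = m := Iff.rfl

section

variable (D : Geom inc R W V s t)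
include D

theorem rad_smul (Re : Four.Real R W p ρ π) (h : H) {m : M} (hm : m ∈ rad Re) : h • m ∈ rad Re := by
  obtain ⟨w, hw, rfl⟩ := hm
  obtain ⟨g, hg, rfl⟩ := Re.surj h
  refine ⟨g * w * g⁻¹, ?_, Re.act g hg w (mem_NN.1 hw).1⟩
  have h1 := NN_smul D hw g
  have h2 : g • p = p := D.fix_of_centralizes fun a ha => (mem_centralizer_iff.1 hg a ha).symm
  rwa [h2] at h1

/-- the stabiliser of `lam` modulo `N_p` -/
def stR (Re : Four.Real R W p ρ π) (lam : Subgroup M) : Subgroup H where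
  carrier := {h | ∀ b ∈ lam, (h • b) * b⁻¹ ∈ rad Re}
  one_mem' := fun b _ => by rw [one_smul, mul_inv_cancel]; exact one_mem _
  mul_mem' := by
    rintro h h' hh hh' b hb
    have e : ((h * h') • b) * b⁻¹ = h • ((h' • b) * b⁻¹) * ((h • b) * b⁻¹) := by
      rw [mul_smul, smul_mul', smul_inv', mul_assoc, ← mul_assoc (h • b)⁻¹, inv_mul_cancel, one_mul]
    rw [e]
    exact mul_mem (rad_smul D Re h (hh' b hb)) (hh b hb)
  inv_mem' := by
    rintro h hh b hb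
    have e : (h⁻¹ • b) * b⁻¹ = h⁻¹ • ((h • b) * b⁻¹)⁻¹ := by
      rw [mul_inv_rev, inv_inv, smul_mul', smul_inv', inv_smul_smul]
    rw [e]
    exact rad_smul D Re _ (inv_mem (hh b hb))

theorem mem_stR (Re : Four.Real R W p ρ π) {lam : Subgroup M} {h : H} :
    h ∈ stR D Re lam ↔ ∀ b ∈ lam, (h • b) * b⁻¹ ∈ rad Re := Iff.rfl

omit D in
theorem exists_lam_ne (F : RD inc R W V p l Sy ρ π ζ T lam U Kh) : ∃ a ∈ lam, a ≠ 1 := by
  by_contra hcon
  push Not at hcon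
  have h1 : lam = ⊥ := by
    rw [eq_bot_iff]
    exact fun a ha => mem_bot.2 (hcon a ha)
  have h2 := F.flag.four
  rw [h1, Subgroup.card_bot] at h2
  omega

/-- **`fx`** at a realised flag -/
theorem exists_fx_base (F : RD inc R W V p l Sy ρ π ζ T lam U Kh) :
    ∃ e v, NV R W V p l e ∧ v ∈ V l ∧ v ∉ R p ∧ ∀ g, (∀ r ∈ R p, g * r = r * g) →
      (∀ u ∈ V l, g * u * g⁻¹ * u⁻¹ ∈ NN R W p) → g * (e * v) * g⁻¹ * (e * v)⁻¹ ∈ R p := by
  have Re := F.re
  haveI := F.flag.finH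
  obtain ⟨a, ha, ha1⟩ := exists_lam_ne F
  obtain ⟨v, hv, hva⟩ := (F.mlam a).1 ha
  have hvW : v ∈ W p := D.V_le p l F.pl hv
  obtain ⟨m, ⟨e, he, rfl⟩, hfix⟩ := exists_fixed F.flag.sq F.flag.ndvd (Γ' := stR D Re lam) (N := rad Re) (a := a)
    (fun t ht => by
      rw [mem_stR]
      intro b hb
      rw [F.flag.fix t ht b hb, mul_inv_cancel]
      exact one_mem _) (fun t ht => F.flag.fix t ht a ha) (fun g hg => (mem_stR D Re).1 hg a ha)
  have heW := (mem_NN.1 he).1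
  have hC : ∀ {g : G}, (∀ r ∈ R p, g * r = r * g) → g ∈ centralizer (R p : Set G) := fun hg =>
    mem_centralizer_iff.2 fun r hr => (hg r hr).symm
  refine ⟨e, v, ⟨he, fun c hc => ?_⟩, hv, fun hvR => ha1 ?_, fun g hg hgu => ?_⟩
  · have hcR := hC (cent_R D F.pl hc)
    have h1 : ∀ b ∈ lam, ρ c • b = b := by
      intro b hb
      obtain ⟨u, hu, rfl⟩ := (F.mlam b).1 hb
      rw [← Re.act c hcR u (D.V_le p l F.pl hu)]
      have h2 := mem_centralizer_iff.1 hc u hu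
      rw [← h2, mul_inv_cancel_right]
    have h2 : ρ c ∈ stR D Re lam := by
      rw [mem_stR]
      intro b hb
      rw [h1 b hb, mul_inv_cancel]; exact one_mem _
    have h3 := hfix _ h2
    rw [smul_mul', h1 a ha] at h3
    exact (comm_mem_iff Re D hcR heW).2 (mul_right_cancel h3)
  · rw [← hva]
    exact (Re.pker v hvW).2 hvR
  · have hgR := hC hg
    have h2 : ρ g ∈ stR D Re lam := by
      rw [mem_stR]
      intro b hb
      obtain ⟨u, hu, rfl⟩ := (F.mlam b).1 hb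
      rw [← π_comm Re D hgR (D.V_le p l F.pl hu)]
      exact ⟨_, hgu u hu, rfl⟩
    refine (comm_mem_iff Re D hgR (mul_mem heW hvW)).2 ?_
    rw [Re.pmul e heW v hvW, hva]
    exact hfix _ h2

theorem exists_fx (F : Frm inc R W V p l Sy ρ π ζ T lam U Kh) (x : X) (m : L) (hx : inc x m) :
    ∃ e v, NV R W V x m e ∧ v ∈ V m ∧ v ∉ R x ∧ ∀ g, (∀ r ∈ R x, g * r = r * g) →
      (∀ u ∈ V m, g * u * g⁻¹ * u⁻¹ ∈ NN R W x) → g * (e * v) * g⁻¹ * (e * v)⁻¹ ∈ R x := by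
  obtain ⟨Sy', ρ', π', ζ', F'⟩ := F.at_flag D hx
  exact exists_fx_base D F'.toRD

theorem KK_iff {k : G} : KK R W p k ↔ k ∈ centralizer (R p : Set G) ∧ ∀ w ∈ W p, k * w * k⁻¹ * w⁻¹ ∈ R p := by
  rw [KK, mem_centralizer_iff]
  exact and_congr_left fun _ => forall₂_congr fun r _ => eq_comm

/-- `K_p` on `V_l` at a realised flag -/
theorem kf_base (F : RD inc R W V p l Sy ρ π ζ T lam U Kh) {k v : G} (hk : KK R W p k) (hv : v ∈ V l)
    (hvR : v ∉ R p) (hkv : k * v = v * k) : k ∈ centralizer (V l : Set G) := by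
  have Re := F.re
  obtain ⟨hkc, hkW⟩ := (KK_iff D).1 hk
  obtain ⟨φ, hφ, h1⟩ := F.kh' k hkc hkW
  have hvW := D.V_le p l F.pl hv
  have h2 : φ (π v) = 1 := by
    apply F.inj
    rw [map_one, ← h1 v hvW]
    exact comm_iff_eq_one.2 hkv
  have h3 : π v ≠ 1 := fun e => hvR ((Re.pker v hvW).1 e)
  rw [mem_centralizer_iff]
  intro u hu
  have h4 := F.flag.ti φ hφ (π v) ((F.mlam _).2 ⟨v, hv, rfl⟩) h3 h2 (π u) ((F.mlam _).2 ⟨u, hu, rfl⟩)
  have h5 := h1 u (D.V_le p l F.pl hu)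
  rw [h4, map_one] at h5
  exact (comm_iff_eq_one.1 h5).symm

theorem ek_base (F : RD inc R W V p l Sy ρ π ζ T lam U Kh) : ∃ k, KK R W p k ∧ k ∉ centralizer (V l : Set G) := by
  obtain ⟨a, ha, ha1⟩ := exists_lam_ne F
  obtain ⟨v, hv, hva⟩ := (F.mlam a).1 ha
  obtain ⟨φ, hφ, h1⟩ := F.flag.f1 a ha ha1
  obtain ⟨k, hk, hkW⟩ := F.kh φ hφ
  refine ⟨k, (KK_iff D).2 ⟨hk, fun w hw => ?_⟩, fun hkV => h1 ?_⟩
  · rw [hkW w hw]
    exact (F.ran _).2 ⟨_, rfl⟩
  · apply F.inj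
    rw [map_one, ← hva, ← hkW v (D.V_le p l F.pl hv)]
    exact comm_iff_eq_one.2 (mem_centralizer_iff.1 hkV v hv).symm

/-- **`Hy` over `Frm`** -/
theorem hy_of_frm [Finite G] (F : Frm inc R W V p l Sy ρ π ζ T lam U Kh) (hn : 2 ≤ n)
    (hm : ∀ k < n, ∀ a b, Walk inc k a b → Com W a b) (hV : Function.Injective V)
    (t6 : ∀ l u, u ∈ centralizer (V l : Set G) → u * u = 1 → (∀ c ∈ centralizer (V l : Set G), c * u = u * c) →
      u ∈ V l)
    (hE : ∀ a b, Crit inc W n a b → ExP inc R W V n a b) : Hy inc R W V s t n where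
  D := D
  two := hn
  min := hm
  lin m m' x y hx hy hx' hy' hne := by
    apply hV
    have key : ∀ m m', inc x m → inc y m → inc x m' → inc y m' → V m ≤ V m' := by
      intro m m' hx hy hx' hy' v hv
      obtain ⟨r, hr, r', hr', rfl⟩ := F.line_all D m x y hx hy hne v hv
      exact mul_mem (D.R_le x m' hx' hr) (D.R_le y m' hy' hr')
    exact le_antisymm (key m m' hx hy hx' hy') (key m' m hx' hy' hx hy)
  tr m m' x y x' y' hx hy hne hx' hy' hne' := by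
    obtain ⟨g, rfl, rfl⟩ := F.fl x m hx
    obtain ⟨g', rfl, rfl⟩ := F.fl x' m' hx'
    have h1 : inc (g' • g⁻¹ • y) (g' • l) := D.inc_smul g' _ _ (inc_inv_smul D hy)
    have h2 : g' • g⁻¹ • y ≠ g' • p := by
      intro e
      apply hne
      have e1 := MulAction.injective g' e
      rw [← e1, smul_inv_smul]
    have F' := F.smul D g'
    obtain ⟨k, hk, hkW, e⟩ := F'.tr y' (g' • g⁻¹ • y) hy' hne'.symm h1 h2
    have hK : KK R W (g' • p) k := (KK_iff D).2 ⟨hk, hkW⟩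
    have h3 : k • g' • l = g' • l := by
      apply hV
      have h5 : ∀ k, KK R W (g' • p) k → ∀ v ∈ V (g' • l), k * v * k⁻¹ ∈ V (g' • l) := by
        intro k hk v hv
        have h6 := D.R_le _ _ hx' (hk.2 v (D.V_le _ _ hx' hv))
        have := mul_mem h6 hv
        rwa [inv_mul_cancel_right] at this
      apply le_antisymm
      · intro v hv
        have h6 := h5 k hK _ ((mem_V_smul D).1 hv)
        have e2 : k * (k⁻¹ * v * k) * k⁻¹ = v := by group
        rwa [e2] at h6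
      · intro v hv
        rw [mem_V_smul D]
        have h6 := h5 k⁻¹ hK.inv v hv
        rwa [inv_inv] at h6
    refine ⟨k * g' * g⁻¹, ?_, ?_, ?_⟩
    · rw [mul_smul, mul_smul, inv_smul_smul]
      exact KK.fix D hK
    · rw [mul_smul, mul_smul]
      exact e
    · rw [mul_smul, mul_smul, inv_smul_smul]
      exact h3
  kt m x y z hx hy hz hyx hzx := by
    obtain ⟨Sy', ρ', π', ζ', F'⟩ := F.at_flag D hx
    obtain ⟨k, hk, hkW, e⟩ := F'.tr z y hz hzx hy hyx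
    exact ⟨k, (KK_iff D).2 ⟨hk, hkW⟩, e⟩
  kf m x k v hx hk hv hvR hkv := by
    obtain ⟨Sy', ρ', π', ζ', F'⟩ := F.at_flag D hx
    exact kf_base D F'.toRD hk hv hvR hkv
  ek m x hx := by
    obtain ⟨Sy', ρ', π', ζ', F'⟩ := F.at_flag D hx
    exact ek_base D F'.toRD
  t6 := t6
  xx a b hc := (hE a b hc).cen
  no := F.noOver D
  ex a b hc := by
    have h1 := hE a b hc
    obtain ⟨r, m, hr, hrm, hbm⟩ := hc.symm.last (by omega)
    have h2 := (h1.ex r m hr hrm hbm).eq (W b ⊓ centralizer (W a : Set G)) (W a ⊓ centralizer (W b : Set G)) ?_ ?_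
    · exact h2.le
    · intro u
      constructor
      · rintro ⟨hu, hu'⟩
        refine ⟨hu, fun w hw => ?_⟩
        rw [comm_iff_eq_one.2 (mem_centralizer_iff.1 hu' w hw).symm]
        exact one_mem _
      · rintro ⟨hu, hu'⟩
        exact ⟨hu, mem_centralizer_iff.2 fun w hw => (h1.good u hu hu' w hw).symm⟩
    · intro u
      constructor
      · rintro ⟨hu, hu'⟩
        refine ⟨hu, fun w hw => ?_⟩
        rw [comm_iff_eq_one.2 (mem_centralizer_iff.1 hu' w hw)]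
        exact one_mem _
      · rintro ⟨hu, hu'⟩
        exact ⟨hu, mem_centralizer_iff.2 fun w hw => h1.cen u hu hu' w hw⟩
  ke a b hc := (hE a b hc).good

/-- **The end of section 7**: no critical pair `(a, b)` with `f ∈ N_b`, `[f, W_a] ≠ 1`, `[f, W_a] ≤ N_a`. -/
theorem false_of_frm [Finite G] (F : Frm inc R W V p l Sy ρ π ζ T lam U Kh) (hn : 2 ≤ n) (hV : Function.Injective V)
    (t6 : ∀ l u, u ∈ centralizer (V l : Set G) → u * u = 1 → (∀ c ∈ centralizer (V l : Set G), c * u = u * c) →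
      u ∈ V l)
    (hE : ∀ a b, Crit inc W n a b → ExP inc R W V n a b) {a b : X} (hc : Crit inc W n a b) {f : G}
    (hf : f ∈ NN R W b) (hC : ∀ w ∈ W a, f * w * f⁻¹ * w⁻¹ ∈ NN R W a) (hm : ∃ w ∈ W a, f * w ≠ w * f) : False :=
  (hy_of_frm D F hn hc.min hV t6 hE).false_of hc hf hC hm fun m hm => exists_fx D F a m hm

end

end Cfsg.Agent.Omega.NO3S.WQ

end
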