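import Cfsg.Agent.Mrg.Omega.NO3S.WQ.Base
import Cfsg.Agent.Mrg.Omega.NO3S.PB.Geom


/-!
# FullB, section 7 of #21459: (T6) over the `(R, B)`-frame

* `t6_base`, `t6` : `PB S B P V Z`, `OmB B V`: an involution (or `1`) of the centre of `C_G(L)`, `L` a line, lies in `L`;
* `false_of_pb` : the end of section 7 over `PB`, for every realised frame `Frm`;
* with `W0` (973) take `hE := W0.ex`.
-/

set_option autoImplicit false
set_option linter.unusedSectionVars false
set_option linter.unusedVariables false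

namespace Cfsg.Agent.Omega.NO3S.WQ

open Subgroup Cfsg Cfsg.Agent.ZN Cfsg.Agent.MinSimple.VModule Cfsg.Agent.Omega.NOThree.Pts
open Cfsg.Agent.Omega.NO3S.FarQ Cfsg.Agent.Omega.NO3S.FarQ.Glue Cfsg.Agent.Omega.NO3S.FarQ.Free
open Cfsg.Agent.Omega.NO3S.FarQ.Asm (ExP)
open Cfsg.Agent.Omega.NO3S.PT
open Cfsg.Agent.Omega.NO3S.PtGeom (Pt inc)
open scoped Pointwise

section tsix

variable {G : Type*} [Group G] [Finite G] {S : Sylow 2 G} {B P V Z : Subgroup G} (h : PB S B P V Z)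
include h

theorem t6_base (hO : OmB B V) {u : G} (hu : u ∈ centralizer (V : Set G)) (huu : u * u = 1)
    (hc : ∀ c ∈ centralizer (V : Set G), c * u = u * c) : u ∈ V := by
  have : Fact (Nat.Prime 2) := ⟨Nat.prime_two⟩
  let A : Subgroup G :=
    { carrier := {u | u ∈ centralizer (V : Set G) ∧ u * u = 1 ∧ ∀ c ∈ centralizer (V : Set G), c * u = u * c}
      one_mem' := ⟨one_mem _, one_mul _, fun c _ => by rw [mul_one, one_mul]⟩
      mul_mem' := by
        rintro a b ⟨ha, ha2, hac⟩ ⟨hb, hb2, hbc⟩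
        refine ⟨mul_mem ha hb, ?_, fun c hc => ?_⟩
        · have h1 := hac b hb
          calc a * b * (a * b) = a * (b * a) * b := by group
            _ = a * (a * b) * b := by rw [h1]
            _ = (a * a) * (b * b) := by group
            _ = 1 := by rw [ha2, hb2, one_mul]
        · rw [← mul_assoc, hac c hc, mul_assoc, hbc c hc, mul_assoc]
      inv_mem' := by
        rintro a ⟨ha, ha2, hac⟩
        have h1 : a⁻¹ = a := inv_eq_of_mul_eq_one_left ha2
        rw [Set.mem_ofPred_eq, h1]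
        exact ⟨ha, ha2, hac⟩ }
  have hA2 : IsPGroup 2 A := fun a => ⟨1, Subtype.ext (by
    rw [pow_one, pow_two]
    exact a.2.2.1)⟩
  have hSV : (S : Subgroup G) ≤ normalizer (V : Set G) := h.SP.trans h.PN
  have hcn : ∀ g ∈ normalizer (V : Set G), ∀ c ∈ centralizer (V : Set G), g * c * g⁻¹ ∈ centralizer (V : Set G) := by
    intro g hg c hc'
    have h1 : cj g (centralizer (V : Set G)) = centralizer (V : Set G) := by
      rw [cj_centralizer, cj_eq_iff.2 hg]
    rw [← h1]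
    exact conj_mem_cj hc'
  have hSA : (S : Subgroup G) ≤ normalizer (A : Set G) := by
    refine mem_normalizer_of_conj fun g hg a ha => ?_
    obtain ⟨ha1, ha2, hac⟩ := ha
    refine ⟨hcn g (hSV hg) a ha1, ?_, fun c hc' => ?_⟩
    · calc g * a * g⁻¹ * (g * a * g⁻¹) = g * (a * a) * g⁻¹ := by group
        _ = 1 := by rw [ha2]; group
    · have h1 := hac _ (by
        have := hcn g⁻¹ (inv_mem (hSV hg)) c hc'
        exact this)
      calc c * (g * a * g⁻¹) = g * (g⁻¹ * c * g⁻¹⁻¹ * a) * g⁻¹ := by group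
        _ = g * (a * (g⁻¹ * c * g⁻¹⁻¹)) * g⁻¹ := by rw [h1]
        _ = g * a * g⁻¹ * c := by group
  have h1 : IsPGroup 2 ((S : Subgroup G) ⊔ A : Subgroup G) := S.isPGroup'.to_sup_of_normal_right' hA2 hSA
  have h2 := S.is_maximal' h1 le_sup_left
  have h3 : u ∈ (S : Subgroup G) := by
    rw [← h2]
    exact (le_sup_right : A ≤ _) ⟨hu, huu, hc⟩
  have h4 : u ∈ B := by
    rw [h.B_eq]
    exact ⟨h3, centralizer_le h.ZV hu⟩
  exact hO u h4 hu huu fun s _ hs => hc s hs

theorem t6 (hO : OmB B V) (l : Pt V) (u : G) (hu : u ∈ centralizer (l.sg : Set G)) (huu : u * u = 1)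
    (hc : ∀ c ∈ centralizer (l.sg : Set G), c * u = u * c) : u ∈ l.sg := by
  obtain ⟨g, hg⟩ := l.exists_smul
  have hl : l.sg = cj g V := by rw [hg]; rfl
  rw [hl] at hu hc ⊢
  rw [mem_cj]
  have hcc : ∀ {a : G}, a ∈ centralizer ((cj g V : Subgroup G) : Set G) ↔ g⁻¹ * a * g ∈ centralizer (V : Set G) := by
    intro a
    rw [← cj_centralizer, mem_cj]
  refine t6_base h hO (hcc.1 hu) ?_ fun c hc' => ?_
  · calc g⁻¹ * u * g * (g⁻¹ * u * g) = g⁻¹ * (u * u) * g := by group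
      _ = 1 := by rw [huu]; group
  · have h1 := hc (g * c * g⁻¹) (hcc.2 (by
      have e : g⁻¹ * (g * c * g⁻¹) * g = c := by group
      rwa [e]))
    calc c * (g⁻¹ * u * g) = g⁻¹ * (g * c * g⁻¹ * u) * g := by group
      _ = g⁻¹ * (u * (g * c * g⁻¹)) * g := by rw [h1]
      _ = g⁻¹ * u * g * c := by group

variable {H M K : Type*} [Group H] [CommGroup M] [MulDistribMulAction H M] [CommGroup K]
variable {p : Pt Z} {l : Pt V} {Sy : Subgroup G} {ρ : G → H} {π : G → M} {ζ : K →* G} {T : Subgroup H}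
  {lam U : Subgroup M} {Kh : Subgroup (M →* K)} {n : ℕ}

/-- **Section 7 over the `(R, B)`-frame**, `n ≥ 2` -/
theorem false_of_pb (hf : ¬ kx V Z ≤ centralizer (V : Set G)) (hO : OmB B V)
    (F : Frm (inc (Z := Z) (V := V)) (fun x => x.sg) (fun x => ws V x.sg) (fun l => l.sg) p l Sy ρ π ζ T lam U Kh)
    (hn : 2 ≤ n)
    (hE : ∀ a b : Pt Z, Crit (inc (Z := Z) (V := V)) (fun x => ws V x.sg) n a b →
      ExP (inc (Z := Z) (V := V)) (fun x => x.sg) (fun x => ws V x.sg) (fun l => l.sg) n a b)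
    {a b : Pt Z} (hc : Crit (inc (Z := Z) (V := V)) (fun x => ws V x.sg) n a b) {f : G}
    (hfb : f ∈ NN (fun x : Pt Z => x.sg) (fun x => ws V x.sg) b)
    (hC : ∀ w ∈ ws V a.sg, f * w * f⁻¹ * w⁻¹ ∈ NN (fun x : Pt Z => x.sg) (fun x => ws V x.sg) a)
    (hm : ∃ w ∈ ws V a.sg, f * w ≠ w * f) : False :=
  false_of_frm (PB.Geom.geom h hf hO) F hn (fun _ _ e => Pt.ext e) (t6 h hO) hE hc hfb hC hm

end tsix

end Cfsg.Agent.Omega.NO3S.WQ
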